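import Groth.Agent.S15187
import Groth.Agent.S15168
import Groth.Agent.S15185
import Mathlib.GroupTheory.SchurZassenhaus
import Mathlib.GroupTheory.Torsion
import Mathlib.RingTheory.Norm.Basic
import Mathlib.GroupTheory.Sylow

/-!
# Finite subgroups of automorphism groups of Severi-Brauer varieties
-/

set_option autoImplicit false
universe u v

open Polynomial

namespace K845.AutOrd

/-- Order of an element of finite order of a group of the form `Aˣ / kˣ`. -/
theorem pow_eq_one (k : Type u) [Field k] (hk : ∀ m : ℕ, 0 < m → (X ^ m - 1 : k[X]).Splits)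
    (A : Type u) [DivisionRing A] [Algebra k A] [Algebra.IsCentral k A]
    (n : ℕ) (hn : 0 < n) (hA : Module.finrank k A = n * n)
    (G : Type v) [Group G] (ξ : Aˣ →* G) (hξ : Function.Surjective ξ)
    (hker : ξ.ker = (Units.map (algebraMap k A : k →* A)).range)
    (g : G) (hg : IsOfFinOrder g) : g ^ n = 1 := by
  have hfin : FiniteDimensional k A := FiniteDimensional.of_finrank_pos (by rw [hA]; exact Nat.mul_pos hn hn)
  obtain ⟨a, rfl⟩ := hξ g
  obtain ⟨r, hr, hr1⟩ := isOfFinOrder_iff_pow_eq_one.mp hg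
  rw [← map_pow, ← MonoidHom.mem_ker, hker] at hr1
  obtain ⟨c, hc⟩ := hr1
  have h1 := Groth.Agent.S15168.result k hk A n (by rw [hA, sq]) (a : A) ⟨r, hr, ⟨(c : k), by
    have := congrArg (fun z : Aˣ => (z : A)) hc
    simpa using this⟩⟩
  obtain ⟨d, hd⟩ := h1
  have hd0 : d ≠ 0 := by
    rintro rfl
    rw [map_zero] at hd
    exact (pow_ne_zero n a.ne_zero) hd.symm
  rw [← map_pow, ← MonoidHom.mem_ker, hker]
  exact ⟨Units.mk0 d hd0, by ext; simpa using hd⟩

/-- The semidirect product decomposition. -/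
theorem decomposition (k : Type u) [Field k] (p : ℕ) [Fact p.Prime] [CharP k p]
    (hk : ∀ r : ℕ, 0 < r → (X ^ r - 1 : k[X]).Splits)
    (A : Type u) [DivisionRing A] [Algebra k A] [Algebra.IsCentral k A]
    (n n' m : ℕ) (hn0 : 0 < n) (hA : Module.finrank k A = n * n) (hn : n = n' * p ^ m) (hn' : ¬ p ∣ n')
    (Γ : Type v) [Group Γ] (ξ : Aˣ →* Γ) (hξ : Function.Surjective ξ)
    (hker : ξ.ker = (Units.map (algebraMap k A : k →* A)).range)
    (G : Subgroup Γ) [Finite G] :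
    ∃ H S : Subgroup Γ, H ≤ G ∧ S ≤ G ∧
      (∀ g ∈ G, ∀ h ∈ H, g * h * g⁻¹ ∈ H) ∧ H ⊓ S = ⊥ ∧ H ⊔ S = G ∧
      (∀ h ∈ H, ((orderOf h : ℕ) : k) ≠ 0) ∧
      (∀ s ∈ S, ∀ t ∈ S, s * t = t * s) ∧ (∀ s ∈ S, s ^ (p ^ m) = 1) := by
  have hfin : FiniteDimensional k A := FiniteDimensional.of_finrank_pos (by rw [hA]; exact Nat.mul_pos hn0 hn0)
  have hp : p.Prime := Fact.out
  have hn'pos : 0 < n' := Nat.pos_of_ne_zero (by rintro rfl; exact hn' (dvd_zero p))
  -- the norm modulo `p ^ (2 m)`-th powers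
  let P : Subgroup kˣ := (powMonoidHom (p ^ (m + m)) : kˣ →* kˣ).range
  let ν : Aˣ →* kˣ ⧸ P := (QuotientGroup.mk' P).comp (Units.map (Algebra.norm k : A →* k))
  have hνker : ξ.ker ≤ ν.ker := by
    rw [hker]
    rintro _ ⟨c, rfl⟩
    rw [MonoidHom.mem_ker]
    change QuotientGroup.mk' P _ = 1
    rw [← MonoidHom.mem_ker, QuotientGroup.ker_mk']
    refine ⟨c ^ (n' * n'), ?_⟩
    ext
    rw [powMonoidHom_apply, Units.val_pow_eq_pow_val, Units.val_pow_eq_pow_val, Units.coe_map, Units.coe_map]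
    change _ = Algebra.norm k (algebraMap k A c)
    rw [Algebra.norm_algebraMap, hA, ← pow_mul]
    congr 1
    rw [hn, pow_add]
    ring
  let ψ : Γ →* kˣ ⧸ P := ξ.liftOfSurjective hξ ⟨ν, hνker⟩
  have hψ : ∀ a, ψ (ξ a) = ν a := fun a => MonoidHom.liftOfRightInverse_comp_apply ξ _ _ ⟨ν, hνker⟩ a
  have hexp : ∀ y : kˣ ⧸ P, y ^ (p ^ (m + m)) = 1 := by
    intro y
    obtain ⟨y, rfl⟩ := QuotientGroup.mk'_surjective P y
    rw [← map_pow, ← MonoidHom.mem_ker, QuotientGroup.ker_mk']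
    exact ⟨y, rfl⟩
  -- elements of the kernel
  have hkerψ : ∀ g : Γ, IsOfFinOrder g → ψ g = 1 → g ^ n' = 1 := by
    intro g hg hg1
    obtain ⟨a, rfl⟩ := hξ g
    have h1 := pow_eq_one k hk A n hn0 hA Γ ξ hξ hker (ξ a) hg
    rw [← map_pow, ← MonoidHom.mem_ker, hker] at h1
    obtain ⟨c, hc⟩ := h1
    rw [hψ] at hg1
    change QuotientGroup.mk' P _ = 1 at hg1
    rw [← MonoidHom.mem_ker, QuotientGroup.ker_mk'] at hg1
    obtain ⟨b, hb⟩ := hg1
    have hb' : (Algebra.norm k (a : A)) = (b : k) ^ (p ^ (m + m)) := by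
      have := congrArg (fun z : kˣ => (z : k)) hb
      simpa using this.symm
    have hc' : (a : A) ^ n = algebraMap k A c := by
      have := congrArg (fun z : Aˣ => (z : A)) hc
      simpa using this.symm
    have h2 : (b : k) ^ (p ^ (m + m) * n) = (c : k) ^ (n * n) := by
      rw [pow_mul, ← hb', ← map_pow, hc', Algebra.norm_algebraMap, hA]
    have h3 : (algebraMap k A (b : k)) ^ (p ^ (m + m) * n) = (a : A) ^ (n * n * n) := by
      rw [← map_pow, h2, map_pow, ← hc', ← pow_mul]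
      congr 1
      ring
    have : CharP A p := charP_of_injective_algebraMap (FaithfulSMul.algebraMap_injective k A) p
    have hcomm : Commute ((a : A) ^ (n' * n' * n')) ((algebraMap k A (b : k)) ^ n') := by
      rw [← map_pow]
      exact (Algebra.commutes _ _).symm
    have hroot : (a : A) ^ (n' * n' * n') = (algebraMap k A (b : k)) ^ n' := by
      have h1 := sub_pow_char_pow_of_commute (R := A) p (n := m + m + m) hcomm
      rw [← pow_mul, ← pow_mul] at h1
      have e1 : n' * n' * n' * p ^ (m + m + m) = n * n * n := by rw [hn, pow_add, pow_add]; ring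
      have e2 : n' * p ^ (m + m + m) = p ^ (m + m) * n := by rw [hn, pow_add, pow_add]; ring
      rw [e1, e2, ← h3, sub_self] at h1
      exact sub_eq_zero.mp (pow_eq_zero_iff (pow_pos hp.pos _).ne' |>.mp h1)
    -- group theory
    have h4 : (ξ a) ^ n = 1 := by
      rw [← map_pow, ← MonoidHom.mem_ker, hker]
      exact ⟨c, hc⟩
    have h5 : (ξ a) ^ (n' * n' * n') = 1 := by
      rw [← map_pow, ← MonoidHom.mem_ker, hker]
      refine ⟨b ^ n', ?_⟩
      ext
      simpa using hroot.symm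
    have h6 : orderOf (ξ a) ∣ Nat.gcd n (n' * n' * n') := Nat.dvd_gcd (orderOf_dvd_of_pow_eq_one h4) (orderOf_dvd_of_pow_eq_one h5)
    have hgcd : Nat.gcd n (n' * n' * n') = n' := by
      rw [hn, mul_assoc, Nat.gcd_mul_left]
      have : Nat.gcd (p ^ m) (n' * n') = 1 := by
        refine Nat.Coprime.pow_left _ ?_
        have h7 := (Nat.Prime.coprime_iff_not_dvd hp).mpr hn'
        exact h7.mul_right h7
      rw [this, mul_one]
    rw [hgcd] at h6
    exact orderOf_dvd_iff_pow_eq_one.mp h6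
  -- the normal subgroup
  let ψG : G →* kˣ ⧸ P := ψ.comp G.subtype
  let H₀ : Subgroup G := ψG.ker
  have hfinG : ∀ g : G, IsOfFinOrder (g : Γ) := fun g =>
    (Submonoid.isOfFinOrder_coe (x := g)).mpr (isOfFinOrder_of_finite g)
  have hcardH : ¬ p ∣ Nat.card H₀ := by
    intro hdvd
    obtain ⟨x, hx⟩ := exists_prime_orderOf_dvd_card' (G := H₀) p hdvd
    have h1 : ((x : G) : Γ) ^ n' = 1 := hkerψ _ (hfinG x) x.2
    have h2 : x ^ n' = 1 := by
      ext
      simpa using h1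
    exact hn' (hx ▸ orderOf_dvd_of_pow_eq_one h2)
  have hindex : ∃ j, H₀.index = p ^ j := by
    have h1 : IsPGroup p ψG.range := by
      intro y
      refine ⟨m + m, ?_⟩
      ext
      simpa using hexp y
    have h2 : Finite ψG.range := Finite.of_surjective ψG.rangeRestrict ψG.rangeRestrict_surjective
    obtain ⟨j, hj⟩ := IsPGroup.iff_card.mp h1
    exact ⟨j, by rw [← hj]; exact Subgroup.index_ker ψG⟩
  have hcop : Nat.Coprime (Nat.card H₀) H₀.index := by
    obtain ⟨j, hj⟩ := hindex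
    rw [hj]
    exact Nat.Coprime.pow_right _ ((Nat.Prime.coprime_iff_not_dvd hp).mpr hcardH).symm
  obtain ⟨S₀, hS₀⟩ := Subgroup.exists_right_complement'_of_coprime hcop
  refine ⟨H₀.map G.subtype, S₀.map G.subtype, ?_, ?_, ?_, ?_, ?_, ?_, ?_, ?_⟩
  · rintro _ ⟨x, _, rfl⟩; exact x.2
  · rintro _ ⟨x, _, rfl⟩; exact x.2
  · rintro g hg _ ⟨x, hx, rfl⟩
    refine ⟨⟨g, hg⟩ * x * ⟨g, hg⟩⁻¹, ?_, rfl⟩
    exact (inferInstance : H₀.Normal).conj_mem x hx ⟨g, hg⟩
  · rw [← Subgroup.map_inf_eq _ _ G.subtype (Subgroup.subtype_injective G), hS₀.disjoint.eq_bot, Subgroup.map_bot]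
  · rw [← Subgroup.map_sup, hS₀.sup_eq_top]
    ext x
    constructor
    · rintro ⟨y, _, rfl⟩; exact y.2
    · intro hx; exact ⟨⟨x, hx⟩, trivial, rfl⟩
  · rintro _ ⟨x, hx, rfl⟩
    have h1 : ((x : G) : Γ) ^ n' = 1 := hkerψ _ (hfinG x) hx
    have h2 : orderOf (G.subtype x) ∣ n' := orderOf_dvd_of_pow_eq_one h1
    rw [Ne, CharP.cast_eq_zero_iff k p]
    exact fun h3 => hn' (h3.trans h2)
  · -- commutativity
    rintro _ ⟨x, hx, rfl⟩ _ ⟨y, hy, rfl⟩
    rw [← map_mul, ← map_mul]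
    congr 1
    have h1 : x * y * (y * x)⁻¹ ∈ H₀ ⊓ S₀ := by
      refine ⟨?_, S₀.mul_mem (S₀.mul_mem hx hy) (S₀.inv_mem (S₀.mul_mem hy hx))⟩
      change x * y * (y * x)⁻¹ ∈ ψG.ker
      rw [MonoidHom.mem_ker, map_mul, map_inv, map_mul, map_mul, mul_comm (ψG x), mul_inv_cancel]
    rw [hS₀.disjoint.eq_bot, Subgroup.mem_bot] at h1
    exact mul_inv_eq_one.mp h1
  · rintro _ ⟨x, hx, rfl⟩
    have h1 : x ^ (p ^ (m + m)) = 1 := by
      have h2 : x ^ (p ^ (m + m)) ∈ H₀ ⊓ S₀ := by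
        refine ⟨?_, S₀.pow_mem hx _⟩
        change x ^ (p ^ (m + m)) ∈ ψG.ker
        rw [MonoidHom.mem_ker, map_pow]
        exact hexp _
      rwa [hS₀.disjoint.eq_bot, Subgroup.mem_bot] at h2
    have h3 : ((x : G) : Γ) ^ n = 1 := pow_eq_one k hk A n hn0 hA Γ ξ hξ hker _ (hfinG x)
    have h4 : ((x : G) : Γ) ^ (p ^ (m + m)) = 1 := by
      have := congrArg (fun z : G => (z : Γ)) h1
      simpa using this
    have h5 : orderOf ((x : G) : Γ) ∣ Nat.gcd n (p ^ (m + m)) :=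
      Nat.dvd_gcd (orderOf_dvd_of_pow_eq_one h3) (orderOf_dvd_of_pow_eq_one h4)
    have h6 : Nat.gcd n (p ^ (m + m)) = p ^ m := by
      rw [hn, pow_add, Nat.gcd_mul_right]
      have : Nat.gcd n' (p ^ m) = 1 := Nat.Coprime.pow_right _ ((Nat.Prime.coprime_iff_not_dvd hp).mpr hn').symm
      rw [this, one_mul]
    rw [h6] at h5
    exact orderOf_dvd_iff_pow_eq_one.mp h5

end K845.AutOrd
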