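import Groth.Agent.S15839
import Groth.Agent.Sga3B.LocalLift
import Groth.Agent.Sga3B.CentRep
import Groth.Agent.Books.AffBridge2

/-!
# The centralizer of a point of finite order prime to the characteristic is smooth

* `exists_avg` : averaging of infinitesimal liftings of algebra homomorphisms;
* `exists_centralizer_pt` : `G` affine and smooth over a field `K`, `x ∈ G(K)` with `x ^ m = 1`, `m ≠ 0` in `K`.
  The centralizer of `x` is represented by a smooth closed subgroup.
-/

set_option autoImplicit false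

universe u

open CategoryTheory MonoidalCategory CartesianMonoidalCategory MonObj GrpObj AlgebraicGeometry
open Groth.Agent.Books.AffBridge Groth.Agent.Books.AffBridge2

namespace K845.CentFin

section Avg

variable {K : Type*} [Field K] {A B : Type*} [CommRing A] [CommRing B] [Algebra K A] [Algebra K B]

/-- Averaging of the liftings `f ∘ s ^ i`. -/
theorem exists_avg (I : Ideal B) (hI : I * I = ⊥) (s : A →ₐ[K] A) (m : ℕ) (hm : (m : K) ≠ 0)
    (hs : s ^ m = 1) (f : A →ₐ[K] B) (hf : ∀ a, f (s a) - f a ∈ I) :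
    ∃ w : A →ₐ[K] B, (∀ a, w a - f a ∈ I) ∧ w.comp s = w := by
  have h0 : ∀ x ∈ I, ∀ y ∈ I, x * y = 0 := fun x hx y hy => by
    have := Ideal.mul_mem_mul hx hy
    rwa [hI, Ideal.mem_bot] at this
  have hfi : ∀ (i : ℕ) (a : A), f ((s ^ i) a) - f a ∈ I := by
    intro i
    induction i with
    | zero => intro a; rw [pow_zero, AlgHom.one_apply, sub_self]; exact zero_mem _
    | succ i ih =>
      intro a
      have h1 := ih (s a)
      have h2 := add_mem h1 (hf a)
      rw [sub_add_sub_cancel] at h2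
      rwa [pow_succ, AlgHom.mul_apply]
  let D : A →ₗ[K] B := (m : K)⁻¹ • ∑ i ∈ Finset.range m, ((f.comp (s ^ i)).toLinearMap - f.toLinearMap)
  have hD : ∀ a, D a = (m : K)⁻¹ • ∑ i ∈ Finset.range m, (f ((s ^ i) a) - f a) := by
    intro a
    simp only [D, LinearMap.smul_apply, LinearMap.sum_apply, LinearMap.sub_apply]
    rfl
  have hDI : ∀ a, D a ∈ I := by
    intro a
    rw [hD]
    exact (Submodule.smul_mem (I.restrictScalars K) _ (Submodule.sum_mem (I.restrictScalars K) fun i _ => hfi i a))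
  have hDmul : ∀ a b, D (a * b) = f a * D b + D a * f b := by
    intro a b
    rw [hD, hD, hD, mul_smul_comm, smul_mul_assoc, ← smul_add, Finset.mul_sum, Finset.sum_mul,
      ← Finset.sum_add_distrib]
    congr 1
    refine Finset.sum_congr rfl fun i _ => ?_
    have h1 := h0 _ (hfi i a) _ (hfi i b)
    rw [map_mul, map_mul, map_mul]
    linear_combination h1
  have hD1 : D 1 = 0 := by
    rw [hD, Finset.sum_eq_zero, smul_zero]
    intro i _
    rw [map_one, map_one, sub_self]
  let w : A →ₐ[K] B := AlgHom.ofLinearMap (f.toLinearMap + D) (by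
      change f 1 + D 1 = 1
      rw [hD1, map_one, add_zero]) (by
      intro a b
      change f (a * b) + D (a * b) = (f a + D a) * (f b + D b)
      rw [hDmul, map_mul]
      linear_combination - h0 _ (hDI a) _ (hDI b))
  have hw : ∀ a, w a = f a + D a := fun a => rfl
  refine ⟨w, fun a => ?_, ?_⟩
  · rw [hw, add_sub_cancel_left]
    exact hDI a
  · have hw2 : ∀ a, w a = (m : K)⁻¹ • ∑ i ∈ Finset.range m, f ((s ^ i) a) := by
      intro a
      rw [hw, hD, Finset.sum_sub_distrib, Finset.sum_const, Finset.card_range, smul_sub,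
        ← Nat.cast_smul_eq_nsmul K, inv_smul_smul₀ hm]
      ring
    apply AlgHom.ext
    intro a
    rw [AlgHom.comp_apply, hw2, hw2]
    congr 1
    have h1 : ∀ i, f ((s ^ i) (s a)) = f ((s ^ (i + 1)) a) := fun i => by
      rw [pow_succ, AlgHom.mul_apply]
    simp_rw [h1]
    have h2 := Finset.sum_range_succ (fun i => f ((s ^ i) a)) m
    have h3 := Finset.sum_range_succ' (fun i => f ((s ^ i) a)) m
    rw [hs] at h2
    rw [h2, pow_zero] at h3
    exact (add_right_cancel h3).symm

end Avg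

section Smooth

variable {K : Type u} [Field K]

/-- conjugation by a point -/
noncomputable abbrev cj {G : Over (Spec (CommRingCat.of K))} [GrpObj G]
    (x : 𝟙_ (Over (Spec (CommRingCat.of K))) ⟶ G) : G ⟶ G := (toUnit G ≫ x) * 𝟙 G * (toUnit G ≫ x)⁻¹

lemma comp_cj {G : Over (Spec (CommRingCat.of K))} [GrpObj G]
    (x : 𝟙_ (Over (Spec (CommRingCat.of K))) ⟶ G) {T : Over (Spec (CommRingCat.of K))} (g : T ⟶ G) :
    g ≫ cj x = (toUnit T ≫ x) * g * (toUnit T ≫ x)⁻¹ := by
  rw [cj, MonObj.comp_mul, MonObj.comp_mul, GrpObj.comp_inv, Category.comp_id, ← Category.assoc,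
    toUnit_unique (g ≫ toUnit G) (toUnit T)]

/-- **The centralizer of a point of finite order prime to the characteristic is smooth.** -/
theorem exists_centralizer_pt (G : Over (Spec (CommRingCat.of K))) [GrpObj G] [IsAffine G.left]
    [Smooth G.hom] (x : 𝟙_ (Over (Spec (CommRingCat.of K))) ⟶ G) (m : ℕ) (hm : (m : K) ≠ 0)
    (hx : x ^ m = 1) :
    ∃ (Z : Over (Spec (CommRingCat.of K))) (_ : GrpObj Z) (j : Z ⟶ G), IsMonHom j ∧
      IsClosedImmersion j.left ∧ Smooth Z.hom ∧
      ∀ (T : Over (Spec (CommRingCat.of K))) (g : T ⟶ G), (∃ z : T ⟶ Z, z ≫ j = g) ↔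
        g * (toUnit T ≫ x) = (toUnit T ≫ x) * g := by
  have hA : IsAffineHom G.hom := by
    have h : IsAffine ((Functor.fromPUnit (Spec (CommRingCat.of K))).obj G.right) :=
      inferInstanceAs (IsAffine (Spec (CommRingCat.of K)))
    exact isAffineHom_of_isAffine _
  obtain ⟨Z, j, hj, hfp, huniv⟩ := Groth.Agent.S15839.result (Spec (CommRingCat.of K)) G x
  have hmono : Mono j := Over.mono_of_mono_left j
  obtain ⟨i1, hmh⟩ := Groth.Agent.Sga3B.CentRep.exists_grpObj j
    (fun T => Subgroup.centralizer {toUnit T ≫ x}) (fun T g => by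
      rw [huniv, Subgroup.mem_centralizer_singleton_iff])
  refine ⟨Z, i1, j, hmh, hj, ?_, huniv⟩
  have hZ : LocallyOfFinitePresentation Z.hom := by
    rw [← Over.w j]
    infer_instance
  obtain ⟨A, _, _, e, he⟩ := exists_hopf K G
  let s : A →ₐ[K] A := specPreimage K (e.inv ≫ cj x ≫ e.hom)
  have hs : specMap K s = e.inv ≫ cj x ≫ e.hom := specMap_specPreimage K _
  have hpow : ∀ (i : ℕ), specMap K (s ^ i) = e.inv ≫ cj (x ^ i) ≫ e.hom := by
    intro i
    induction i with
    | zero =>
      have h1 : cj (x ^ 0) = 𝟙 G := by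
        rw [cj, pow_zero, MonObj.comp_one, inv_one, _root_.one_mul, _root_.mul_one]
      rw [h1, Category.id_comp, Iso.inv_hom_id]
      exact specMap_id K
    | succ i ih =>
      have h1 : s ^ (i + 1) = (s ^ i).comp s := rfl
      have h2 : cj (x ^ (i + 1)) = cj (x ^ i) ≫ cj x := by
        rw [comp_cj, cj, cj]
        rw [show toUnit G ≫ x ^ (i + 1) = (toUnit G ≫ x) * (toUnit G ≫ x ^ i) by
          rw [← MonObj.comp_mul, pow_succ']]
        group
      rw [h1, specMap_comp, ih, hs, h2]
      simp only [Category.assoc, Iso.hom_inv_id_assoc]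
  have hsm : s ^ m = 1 := by
    apply specMap_injective K
    have h1 : cj (1 : 𝟙_ (Over (Spec (CommRingCat.of K))) ⟶ G) = 𝟙 G := by
      rw [cj, MonObj.comp_one, inv_one, _root_.one_mul, _root_.mul_one]
    rw [hpow, hx, h1, Category.id_comp, Iso.inv_hom_id]
    exact (specMap_id K).symm
  apply Groth.Agent.Sga3B.LocalLift.smooth_of_local_lift
  intro B _ _ I hI α β hβ
  obtain ⟨φ, rfl⟩ := Spec.map_surjective β
  let _ : Algebra K B := φ.hom.toAlgebra
  have hα0 : α ≫ Z.hom = Spec.map (CommRingCat.ofHom (algebraMap K (B ⧸ I))) := by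
    rw [← hβ, ← Spec.map_comp]
    rfl
  let α' : SpecOver K (B ⧸ I) ⟶ Z := Over.homMk α hα0
  have hα1 : (α' ≫ j).left ≫ G.hom = Spec.map (CommRingCat.ofHom (Ideal.Quotient.mk I)) ≫ Spec.map φ := by
    rw [hβ, hα0]
    exact Over.w (α' ≫ j)
  let q : SpecOver K (B ⧸ I) ⟶ SpecOver K B := specMap K (Ideal.Quotient.mkₐ K I)
  obtain ⟨l, hl1, hl2⟩ := Groth.Agent.Flat2H.FSSmoothHom.isFormallySmoothHom_of_smooth G.hom B I
    (by rw [pow_two, hI]) (α' ≫ j).left (Spec.map φ) hα1.symm
  let y : SpecOver K B ⟶ G := Over.homMk l hl2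
  have hy : q ≫ y = α' ≫ j := by
    apply Over.OverMorphism.ext
    exact hl1
  have hα : (α' ≫ j) ≫ cj x = α' ≫ j := by
    rw [comp_cj, ← (huniv _ _).1 ⟨α', rfl⟩, mul_inv_cancel_right]
  let f : A →ₐ[K] B := specPreimage K (y ≫ e.hom)
  have hf : specMap K f = y ≫ e.hom := specMap_specPreimage K _
  have hfs : ((Ideal.Quotient.mkₐ K I).comp f).comp s = (Ideal.Quotient.mkₐ K I).comp f := by
    apply specMap_injective K
    rw [specMap_comp, specMap_comp, hf, hs]
    change (q ≫ y ≫ e.hom) ≫ e.inv ≫ cj x ≫ e.hom = q ≫ y ≫ e.hom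
    rw [Category.assoc, Category.assoc, Iso.hom_inv_id_assoc, ← Category.assoc q, ← Category.assoc (q ≫ y),
      hy, hα, ← hy, Category.assoc]
  obtain ⟨w, hw1, hw2⟩ := exists_avg I hI s m hm hsm f (fun a => by
    rw [← Ideal.Quotient.eq_zero_iff_mem, map_sub, sub_eq_zero]
    exact congrArg (fun k => k a) hfs)
  have hw1' : (Ideal.Quotient.mkₐ K I).comp w = (Ideal.Quotient.mkₐ K I).comp f := by
    apply AlgHom.ext
    intro a
    have h1 := hw1 a
    rw [← Ideal.Quotient.eq_zero_iff_mem, map_sub, sub_eq_zero] at h1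
    exact h1
  let W : SpecOver K B ⟶ G := specMap K w ≫ e.inv
  have hW : W ≫ cj x = W := by
    have h1 : e.inv ≫ cj x = specMap K s ≫ e.inv := by
      rw [hs, Category.assoc, Category.assoc, Iso.hom_inv_id, Category.comp_id]
    change (specMap K w ≫ e.inv) ≫ cj x = specMap K w ≫ e.inv
    rw [Category.assoc, h1, ← Category.assoc, ← specMap_comp, hw2]
  rw [comp_cj, mul_inv_eq_iff_eq_mul] at hW
  obtain ⟨γ, hγ⟩ := (huniv _ W).2 hW.symm
  refine ⟨γ.left, ?_, Over.w γ⟩
  have h2 : q ≫ γ = α' := by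
    rw [← cancel_mono j, Category.assoc, hγ, ← hy]
    change q ≫ specMap K w ≫ e.inv = q ≫ y
    have h3 : q ≫ specMap K w = q ≫ specMap K f := by
      change specMap K _ ≫ _ = specMap K _ ≫ _
      rw [← specMap_comp, ← specMap_comp, hw1']
    rw [← Category.assoc, h3, hf, Category.assoc, Category.assoc, Iso.hom_inv_id, Category.comp_id]
  exact congrArg CommaMorphism.left h2

end Smooth

end K845.CentFin
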