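import Mathlib.RingTheory.MvPolynomial.EulerIdentity
import Mathlib.RingTheory.Polynomial.UniqueFactorization
import Mathlib.RingTheory.Localization.FractionRing
import Mathlib.RingTheory.Localization.AtPrime.Basic
import Mathlib.Algebra.GCDMonoid.Finset
import Mathlib.Algebra.GCDMonoid.IntegrallyClosed
import Mathlib.LinearAlgebra.Matrix.NonsingularInverse

/-!
# Natural automorphisms of the functor of lines are linear

`K` a field, `n ≥ 2`.  A natural family of bijections of `{lines in R^n}`, `R` running over the local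
`K`-algebras, is given by an invertible matrix.  Lines are given by unimodular vectors up to units; a family of
maps is encoded by a relation on vectors.
-/

set_option autoImplicit false
universe u

open MvPolynomial

namespace K845.LineAut

/-- A vector over a local ring generates a line iff some entry is a unit. -/
def Um {R : Type u} [CommRing R] {n : ℕ} (v : Fin n → R) : Prop := ∃ i, IsUnit (v i)

/-- A natural family of maps on lines over local `K`-algebras, encoded by a relation on unimodular vectors. -/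
structure LineRel (K : Type u) [Field K] (n : ℕ) where
  /-- the relation -/
  T : ∀ (R : Type u) [CommRing R] [Algebra K R], (Fin n → R) → (Fin n → R) → Prop
  ex : ∀ (R : Type u) [CommRing R] [IsLocalRing R] [Algebra K R] (v : Fin n → R), Um v → ∃ w, Um w ∧ T R v w
  uniq : ∀ (R : Type u) [CommRing R] [IsLocalRing R] [Algebra K R] (v w w' : Fin n → R),
    Um v → Um w → Um w' → T R v w → T R v w' → ∃ c : Rˣ, w' = (c : R) • w
  mapT : ∀ (R S : Type u) [CommRing R] [Algebra K R] [CommRing S] [Algebra K S] [IsLocalRing R] [IsLocalRing S]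
    (φ : R →ₐ[K] S) (v w : Fin n → R), Um v → Um w → T R v w → T S (φ ∘ v) (φ ∘ w)
  smulL : ∀ (R : Type u) [CommRing R] [IsLocalRing R] [Algebra K R] (v w : Fin n → R) (c : Rˣ), Um v → Um w →
    T R v w → T R ((c : R) • v) w
  smulR : ∀ (R : Type u) [CommRing R] [IsLocalRing R] [Algebra K R] (v w : Fin n → R) (c : Rˣ), Um v → Um w →
    T R v w → T R v ((c : R) • w)

variable {K : Type u} [Field K] {n : ℕ}

theorem Um.smul {R : Type u} [CommRing R] {v : Fin n → R} (h : Um v) (c : Rˣ) : Um ((c : R) • v) := by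
  obtain ⟨i, hi⟩ := h
  exact ⟨i, by simpa using hi⟩

theorem Um.map {R S : Type u} [CommRing R] [CommRing S] {v : Fin n → R} (h : Um v) (φ : R →+* S) :
    Um (φ ∘ v) := by
  obtain ⟨i, hi⟩ := h
  exact ⟨i, hi.map φ⟩

section Gcd

variable {D : Type*} [CommRing D]

/-- Content one: the only common divisors are units, in the multiplied form. -/
def Prim (f : Fin n → D) : Prop := ∀ a b : D, (∀ j, b ∣ a * f j) → b ∣ a

theorem exists_prim [IsDomain D] [UniqueFactorizationMonoid D] (g : Fin n → D) (hg : ∃ j, g j ≠ 0) :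
    ∃ (d : D) (f : Fin n → D), d ≠ 0 ∧ (∀ j, g j = d * f j) ∧ Prim f := by
  classical
  obtain ⟨iN⟩ : Nonempty (StrongNormalizationMonoid D) := inferInstance
  let _ := UniqueFactorizationMonoid.toStrongNormalizedGCDMonoid D
  obtain ⟨j₀, hj₀⟩ := hg
  obtain ⟨f, hf, hf1⟩ := Finset.extract_gcd g (s := Finset.univ) ⟨j₀, Finset.mem_univ _⟩
  refine ⟨Finset.univ.gcd g, f, ?_, fun j => hf j (Finset.mem_univ j), ?_⟩
  · intro h0
    apply hj₀
    rw [hf j₀ (Finset.mem_univ _), h0, zero_mul]
  · intro a b hab
    have h1 : b ∣ Finset.univ.gcd (fun j => a * f j) := Finset.dvd_gcd fun j _ => hab j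
    rw [Finset.gcd_mul_left, hf1, mul_one] at h1
    exact h1.trans (normalize_associated a).dvd

theorem Prim.dvd_unit {f : Fin n → D} (hf : Prim f) (b : D) (hb : ∀ j, b ∣ f j) : IsUnit b := by
  have := hf 1 b (fun j => by rw [one_mul]; exact hb j)
  exact isUnit_of_dvd_one this

theorem Prim.exists_ne_zero [IsDomain D] {f : Fin n → D} (hf : Prim f) : ∃ j, f j ≠ 0 := by
  by_contra h
  push Not at h
  have := hf.dvd_unit 0 (fun j => by rw [h j])
  exact not_isUnit_zero this

end Gcd

section Generic

/-- The generic vector. -/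
abbrev P (K : Type u) [Field K] (n : ℕ) : Type u := MvPolynomial (Fin n) K

theorem um_X {R : Type u} [CommRing R] [Algebra (P K n) R] (h : ∃ i, IsUnit (algebraMap (P K n) R (X i))) :
    Um (fun i => algebraMap (P K n) R (X i)) := h

/-- Data of a linear system attached to a natural family: a primitive vector of polynomials whose values compute the
family at the generic point. -/
theorem exists_generic (L : LineRel K n) (hn : 0 < n) :
    ∃ f : Fin n → P K n, Prim f ∧
      L.T (FractionRing (P K n)) (fun i => algebraMap (P K n) _ (X i)) (fun i => algebraMap (P K n) _ (f i)) := by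
  have hum : Um (fun i : Fin n => algebraMap (P K n) (FractionRing (P K n)) (X i)) := by
    refine ⟨⟨0, hn⟩, ?_⟩
    rw [isUnit_iff_ne_zero]
    simp
  obtain ⟨w, hw, hT⟩ := L.ex _ _ hum
  obtain ⟨b, hb⟩ := IsLocalization.exist_integer_multiples_of_finite (nonZeroDivisors (P K n)) w
  choose g hg using hb
  have hb0 : algebraMap (P K n) (FractionRing (P K n)) (b : P K n) ≠ 0 := by
    simp
  have hgw : (fun i => algebraMap (P K n) (FractionRing (P K n)) (g i)) =
      ((Units.mk0 _ hb0 : (FractionRing (P K n))ˣ) : FractionRing (P K n)) • w := by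
    funext i
    rw [hg i, Pi.smul_apply, Units.val_mk0, Algebra.smul_def, smul_eq_mul]
  have hT' := L.smulR _ _ _ (Units.mk0 _ hb0) hum hw hT
  rw [← hgw] at hT'
  have hgne : ∃ j, g j ≠ 0 := by
    obtain ⟨j, hj⟩ := hw.smul (Units.mk0 _ hb0)
    refine ⟨j, fun h0 => ?_⟩
    rw [← hgw] at hj
    simp [h0] at hj
  obtain ⟨d, f, hd, hdf, hf⟩ := exists_prim g hgne
  refine ⟨f, hf, ?_⟩
  have hd0 : algebraMap (P K n) (FractionRing (P K n)) d ≠ 0 := by simpa using hd
  have humg : Um (fun i => algebraMap (P K n) (FractionRing (P K n)) (g i)) := by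
    rw [hgw]; exact hw.smul _
  have h3 := L.smulR _ _ _ (Units.mk0 _ hd0)⁻¹ hum humg hT'
  convert h3 using 1
  funext i
  rw [Pi.smul_apply, hdf i, map_mul, smul_eq_mul, ← mul_assoc]
  have : (((Units.mk0 _ hd0)⁻¹ : (FractionRing (P K n))ˣ) : FractionRing (P K n)) * algebraMap (P K n) (FractionRing (P K n)) d = 1 := by
    rw [Units.val_inv_eq_inv_val, Units.val_mk0, inv_mul_cancel₀ hd0]
  rw [this, one_mul]

/-- At every prime not containing all the coordinates the polynomials compute the family. -/
theorem at_prime (L : LineRel K n) (f : Fin n → P K n) (hf : Prim f)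
    (hT : L.T (FractionRing (P K n)) (fun i => algebraMap (P K n) _ (X i)) (fun i => algebraMap (P K n) _ (f i)))
    (p : Ideal (P K n)) [p.IsPrime] (hp : ∃ i, (X i : P K n) ∉ p) :
    (∃ j, f j ∉ p) ∧
      L.T (Localization.AtPrime p) (fun i => algebraMap (P K n) _ (X i)) (fun i => algebraMap (P K n) _ (f i)) := by
  have humX : Um (fun i : Fin n => algebraMap (P K n) (Localization.AtPrime p) (X i)) := by
    obtain ⟨i, hi⟩ := hp
    exact ⟨i, IsLocalization.map_units (Localization.AtPrime p) (⟨X i, hi⟩ : p.primeCompl)⟩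
  obtain ⟨g, hg, hTg⟩ := L.ex _ _ humX
  obtain ⟨s, hs⟩ := IsLocalization.exist_integer_multiples_of_finite p.primeCompl g
  choose g' hg' using hs
  obtain ⟨us, hus⟩ := IsLocalization.map_units (Localization.AtPrime p) s
  have hgg : (fun i => algebraMap (P K n) (Localization.AtPrime p) (g' i)) = (us : Localization.AtPrime p) • g := by
    funext i
    rw [hg' i, Pi.smul_apply, hus, Algebra.smul_def, smul_eq_mul]
  have hT1 := L.smulR _ _ _ us humX hg hTg
  have humg' := hg.smul us
  rw [← hgg] at hT1 humg'
  -- compare at the generic point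
  have hunit : ∀ y : p.primeCompl, IsUnit (IsScalarTower.toAlgHom K (P K n) (FractionRing (P K n)) (y : P K n)) := by
    intro y
    rw [isUnit_iff_ne_zero, IsScalarTower.coe_toAlgHom']
    simp only [ne_eq, FaithfulSMul.algebraMap_eq_zero_iff]
    rintro h0
    exact y.2 (h0 ▸ zero_mem p)
  let ψ : Localization.AtPrime p →ₐ[K] FractionRing (P K n) := IsLocalization.liftAlgHom (M := p.primeCompl)
    (f := IsScalarTower.toAlgHom K (P K n) (FractionRing (P K n))) hunit
  have hψ : ∀ a : P K n, ψ (algebraMap _ _ a) = algebraMap _ _ a := fun a => IsLocalization.lift_eq _ a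
  have hT2 := L.mapT _ _ ψ _ _ humX humg' hT1
  have e1 : (ψ ∘ fun i => algebraMap (P K n) (Localization.AtPrime p) (X i)) = fun i => algebraMap (P K n) (FractionRing (P K n)) (X i) := by
    funext i; exact hψ _
  have e2 : (ψ ∘ fun i => algebraMap (P K n) (Localization.AtPrime p) (g' i)) = fun i => algebraMap (P K n) (FractionRing (P K n)) (g' i) := by
    funext i; exact hψ _
  rw [e1, e2] at hT2
  have humXF := humX.map (ψ : Localization.AtPrime p →+* FractionRing (P K n))
  have humg'F := humg'.map (ψ : Localization.AtPrime p →+* FractionRing (P K n))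
  have e1' : ((ψ : Localization.AtPrime p →+* FractionRing (P K n)) ∘ fun i => algebraMap (P K n) (Localization.AtPrime p) (X i)) = fun i => algebraMap (P K n) (FractionRing (P K n)) (X i) := e1
  have e2' : ((ψ : Localization.AtPrime p →+* FractionRing (P K n)) ∘ fun i => algebraMap (P K n) (Localization.AtPrime p) (g' i)) = fun i => algebraMap (P K n) (FractionRing (P K n)) (g' i) := e2
  rw [e1'] at humXF
  rw [e2'] at humg'F
  have humf : Um (fun i => algebraMap (P K n) (FractionRing (P K n)) (f i)) := by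
    obtain ⟨j, hj⟩ := hf.exists_ne_zero
    exact ⟨j, by rw [isUnit_iff_ne_zero]; simpa using hj⟩
  obtain ⟨c, hc⟩ := L.uniq _ _ _ _ humXF humf humg'F hT hT2
  -- `g' = c f`
  obtain ⟨a, b, hb, hab⟩ := IsFractionRing.div_surjective (A := P K n) (c : FractionRing (P K n))
  have hb0 : b ≠ 0 := nonZeroDivisors.ne_zero hb
  have hbF : algebraMap (P K n) (FractionRing (P K n)) b ≠ 0 := by simpa using hb0
  have hrel : ∀ j, b * g' j = a * f j := by
    intro j
    apply FaithfulSMul.algebraMap_injective (P K n) (FractionRing (P K n))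
    have h1 := congrFun hc j
    simp only [Pi.smul_apply, smul_eq_mul] at h1
    rw [map_mul, map_mul, h1, ← hab, ← mul_assoc, mul_div_cancel₀ _ hbF]
  obtain ⟨a', rfl⟩ := hf a b (fun j => ⟨g' j, (hrel j).symm⟩)
  have hrel' : ∀ j, g' j = a' * f j := by
    intro j
    apply mul_left_cancel₀ hb0
    rw [hrel j, mul_assoc]
  obtain ⟨j, hj⟩ := humg'
  have hjp : g' j ∉ p := by
    rw [IsLocalization.AtPrime.isUnit_to_map_iff (Localization.AtPrime p) p] at hj
    exact hj
  have hfj : f j ∉ p := fun h => hjp (by rw [hrel' j]; exact p.mul_mem_left _ h)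
  have ha' : a' ∉ p := fun h => hjp (by rw [hrel' j]; exact p.mul_mem_right _ h)
  refine ⟨⟨j, hfj⟩, ?_⟩
  obtain ⟨ua, hua⟩ := IsLocalization.map_units (Localization.AtPrime p) (⟨a', ha'⟩ : p.primeCompl)
  have h3 := L.smulR _ _ _ ua⁻¹ humX ⟨j, hj⟩ hT1
  convert h3 using 1
  funext i
  have hua' : algebraMap (P K n) (Localization.AtPrime p) a' = ua := hua.symm
  rw [Pi.smul_apply, hrel' i, map_mul, smul_eq_mul, ← mul_assoc, hua', Units.inv_mul, one_mul]

/-- The polynomials compute the family at every local ring. -/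
theorem at_local (L : LineRel K n) (f : Fin n → P K n) (hf : Prim f)
    (hT : L.T (FractionRing (P K n)) (fun i => algebraMap (P K n) _ (X i)) (fun i => algebraMap (P K n) _ (f i)))
    (R : Type u) [CommRing R] [IsLocalRing R] [Algebra K R] (v : Fin n → R) (hv : Um v) :
    Um (fun j => aeval v (f j)) ∧ L.T R v (fun j => aeval v (f j)) := by
  let p : Ideal (P K n) := (IsLocalRing.maximalIdeal R).comap (aeval v : P K n →ₐ[K] R)
  have hpp : p.IsPrime := Ideal.comap_isPrime _ _
  have hmem : ∀ a : P K n, a ∉ p ↔ IsUnit (aeval v a) := by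
    intro a
    rw [Ideal.mem_comap, IsLocalRing.mem_maximalIdeal, mem_nonunits_iff, not_not]
  have hp : ∃ i, (X i : P K n) ∉ p := by
    obtain ⟨i, hi⟩ := hv
    exact ⟨i, by rw [hmem, aeval_X]; exact hi⟩
  obtain ⟨⟨j, hj⟩, hT1⟩ := at_prime L f hf hT p hp
  let ψ : Localization.AtPrime p →ₐ[K] R := IsLocalization.liftAlgHom (M := p.primeCompl) (f := aeval v)
    (fun y => (hmem _).mp y.2)
  have hψ : ∀ a : P K n, ψ (algebraMap _ _ a) = aeval v a := fun a => IsLocalization.lift_eq _ a
  have humX : Um (fun i : Fin n => algebraMap (P K n) (Localization.AtPrime p) (X i)) := by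
    obtain ⟨i, hi⟩ := hp
    exact ⟨i, IsLocalization.map_units (Localization.AtPrime p) (⟨X i, hi⟩ : p.primeCompl)⟩
  have humf : Um (fun i : Fin n => algebraMap (P K n) (Localization.AtPrime p) (f i)) :=
    ⟨j, IsLocalization.map_units (Localization.AtPrime p) (⟨f j, hj⟩ : p.primeCompl)⟩
  have hT2 := L.mapT _ _ ψ _ _ humX humf hT1
  have e1 : (ψ ∘ fun i => algebraMap (P K n) (Localization.AtPrime p) (X i)) = v := by
    funext i; exact (hψ _).trans (aeval_X v i)
  have e2 : (ψ ∘ fun i => algebraMap (P K n) (Localization.AtPrime p) (f i)) = fun j => aeval v (f j) := by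
    funext i; exact hψ _
  rw [e1, e2] at hT2
  exact ⟨⟨j, (hmem _).mp hj⟩, hT2⟩

end Generic

end K845.LineAut
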