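import Groth.Agent.BddFin.K845.LineAut
import Mathlib.RingTheory.MvPolynomial.Tower
import Mathlib.Algebra.MvPolynomial.Nilpotent
import Mathlib.Algebra.MvPolynomial.NoZeroDivisors
import Mathlib.Algebra.MvPolynomial.Division

/-!
# Natural automorphisms of the functor of lines are linear (end of the proof)
-/

set_option autoImplicit false
universe u

open MvPolynomial

namespace K845.LineAut

variable {K : Type u} [Field K] {n : ℕ}

/-- Substitution `X ↦ t X`. -/
noncomputable def sc (K : Type u) [Field K] (n : ℕ) : P K n →ₐ[K] Polynomial (P K n) :=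
  aeval (fun i => Polynomial.X * Polynomial.C (X i))

theorem sc_monomial (d : Fin n →₀ ℕ) (a : K) :
    sc K n (monomial d a) = Polynomial.C (monomial d a) * Polynomial.X ^ d.degree := by
  rw [sc, aeval_monomial]
  have h1 : (d.prod fun i k => (Polynomial.X * Polynomial.C (X i : P K n)) ^ k) =
      Polynomial.X ^ d.degree * Polynomial.C (d.prod fun i k => (X i : P K n) ^ k) := by
    simp only [mul_pow]
    rw [Finsupp.prod_mul]
    congr 1
    · rw [Finsupp.prod, Finset.prod_pow_eq_pow_sum]; rfl
    · rw [Finsupp.prod, Finsupp.prod, map_prod]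
      simp
  rw [h1, monomial_eq, map_mul]
  have h2 : algebraMap K (Polynomial (P K n)) a = Polynomial.C (C a) := rfl
  rw [h2]
  ring

theorem coeff_sc (φ : P K n) (e : ℕ) : (sc K n φ).coeff e = homogeneousComponent e φ := by
  induction φ using MvPolynomial.induction_on' with
  | add p q hp hq => rw [map_add, Polynomial.coeff_add, hp, hq, map_add]
  | monomial d a =>
    rw [sc_monomial, Polynomial.coeff_C_mul, Polynomial.coeff_X_pow]
    by_cases h : e = d.degree
    · rw [if_pos h, mul_one, h, homogeneousComponent_eq_self (isHomogeneous_monomial a rfl)]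
    · rw [if_neg h, mul_zero, homogeneousComponent_of_mem (n := d.degree) (isHomogeneous_monomial a rfl), if_neg h]

theorem homogeneous_of_cross (f : Fin n → P K n) (hf : Prim f)
    (h : ∀ i j, sc K n (f i) * Polynomial.C (f j) = sc K n (f j) * Polynomial.C (f i)) :
    ∃ d, ∀ j, (f j).IsHomogeneous d := by
  have h1 : ∀ i j e, homogeneousComponent e (f i) * f j = homogeneousComponent e (f j) * f i := by
    intro i j e
    have := congrArg (fun q => q.coeff e) (h i j)
    simp only [Polynomial.coeff_mul_C, coeff_sc] at this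
    exact this
  obtain ⟨i, hi⟩ := hf.exists_ne_zero
  -- some homogeneous component of `f i` is non-zero
  have hdvd : ∀ e, f i ∣ homogeneousComponent e (f i) := by
    intro e
    refine hf _ _ fun j => ?_
    rw [h1 i j e]
    exact Dvd.intro_left _ rfl
  set d := (f i).totalDegree with hd
  have hcomp : homogeneousComponent d (f i) ≠ 0 := by
    intro h0
    have h2 : ∀ e, homogeneousComponent e (f i) = 0 := by
      intro e
      by_contra hne
      obtain ⟨q, hq⟩ := hdvd e
      have hq0 : q ≠ 0 := by rintro rfl; rw [mul_zero] at hq; exact hne hq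
      have h3 : (homogeneousComponent e (f i)).totalDegree = e :=
        (homogeneousComponent_isHomogeneous e (f i)).totalDegree hne
      rw [hq, totalDegree_mul_of_isDomain hi hq0] at h3
      have h4 : e ≤ d := by
        by_contra hlt
        exact hne (homogeneousComponent_eq_zero _ _ (by omega))
      have h5 : e = d := by omega
      exact hne (h5 ▸ h0)
    apply hi
    rw [← sum_homogeneousComponent (f i)]
    exact Finset.sum_eq_zero fun e _ => h2 e
  have hself : homogeneousComponent d (f i) = f i := by
    rw [← sum_homogeneousComponent (f i)]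
    conv_lhs => rw [sum_homogeneousComponent (f i)]
    rw [Finset.sum_eq_single d]
    · intro e he hed
      by_contra hne
      obtain ⟨q, hq⟩ := hdvd e
      have hq0 : q ≠ 0 := by rintro rfl; rw [mul_zero] at hq; exact hne hq
      have h3 : (homogeneousComponent e (f i)).totalDegree = e :=
        (homogeneousComponent_isHomogeneous e (f i)).totalDegree hne
      rw [hq, totalDegree_mul_of_isDomain hi hq0] at h3
      have h4 : e ≤ d := by
        by_contra hlt
        exact hne (homogeneousComponent_eq_zero _ _ (by omega))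
      omega
    · intro hnm
      exact absurd (Finset.mem_range.mpr (by omega)) hnm
  refine ⟨d, fun j => ?_⟩
  have h6 := h1 j i d
  rw [hself, mul_comm (f i) (f j)] at h6
  have h7 := mul_right_cancel₀ hi h6
  rw [← h7]
  exact homogeneousComponent_isHomogeneous d (f j)

/-- The polynomials attached to a natural family are homogeneous of the same degree. -/
theorem exists_homogeneous (L : LineRel K n) (hn : 0 < n) (f : Fin n → P K n) (hf : Prim f)
    (hT : L.T (FractionRing (P K n)) (fun i => algebraMap (P K n) _ (X i)) (fun i => algebraMap (P K n) _ (f i))) :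
    ∃ d, ∀ j, (f j).IsHomogeneous d := by
  apply homogeneous_of_cross f hf
  let Q := Polynomial (P K n)
  let F := FractionRing Q
  have hinj : Function.Injective (algebraMap Q F) := FaithfulSMul.algebraMap_injective Q F
  let v : Fin n → F := fun i => algebraMap Q F (Polynomial.C (X i))
  have htne : algebraMap Q F Polynomial.X ≠ 0 := by
    rw [map_ne_zero_iff _ hinj]
    exact Polynomial.X_ne_zero
  let t : Fˣ := Units.mk0 (algebraMap Q F Polynomial.X) htne
  have hv : Um v := ⟨⟨0, hn⟩, by
    rw [isUnit_iff_ne_zero]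
    change algebraMap Q F _ ≠ 0
    rw [map_ne_zero_iff _ hinj, Polynomial.C_ne_zero]
    exact X_ne_zero _⟩
  obtain ⟨hu1, hT1⟩ := at_local L f hf hT F v hv
  obtain ⟨hu2, hT2⟩ := at_local L f hf hT F ((t : F) • v) (hv.smul t)
  have hT3 := L.smulL F _ _ t⁻¹ (hv.smul t) hu2 hT2
  rw [smul_smul, Units.inv_mul, one_smul] at hT3
  obtain ⟨c, hc⟩ := L.uniq F _ _ _ hv hu1 hu2 hT1 hT3
  have e1 : ∀ j, aeval v (f j) = algebraMap Q F (Polynomial.C (f j)) := by
    intro j
    refine (aeval_algebraMap_apply (B := F) (fun i => (Polynomial.C (X i) : Q)) (f j)).trans ?_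
    congr 1
    refine (aeval_algebraMap_apply (B := Q) (fun l => (X l : P K n)) (f j)).trans ?_
    rw [aeval_X_left_apply]
    rfl
  have e2 : ∀ j, aeval ((t : F) • v) (f j) = algebraMap Q F (sc K n (f j)) := by
    intro j
    have h1 : ((t : F) • v) = fun i => algebraMap Q F (Polynomial.X * Polynomial.C (X i)) := by
      funext i
      rw [Pi.smul_apply, map_mul, smul_eq_mul]
      rfl
    rw [h1]
    exact aeval_algebraMap_apply (B := F) (fun i => (Polynomial.X * Polynomial.C (X i) : Q)) (f j)
  intro i j
  apply FaithfulSMul.algebraMap_injective Q F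
  rw [map_mul, map_mul, ← e1, ← e1, ← e2, ← e2]
  have h1 := congrFun hc i
  have h2 := congrFun hc j
  simp only [Pi.smul_apply, smul_eq_mul] at h1 h2
  rw [h1, h2]
  ring

/-- The matrix of a family of linear forms. -/
theorem exists_matrix (f : Fin n → P K n) (hf : ∀ j, (f j).IsHomogeneous 1) :
    ∃ M : Matrix (Fin n) (Fin n) K, ∀ (R : Type u) [CommRing R] [Algebra K R] (v : Fin n → R) (j : Fin n),
      aeval v (f j) = Matrix.vecMul v (M.map (algebraMap K R)) j := by
  have h1 : ∀ j i, ∃ c : K, pderiv i (f j) = C c := by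
    intro j i
    have := (hf j).pderiv (i := i)
    rw [Nat.sub_self] at this
    have h0 := (totalDegree_zero_iff_isHomogeneous (σ := Fin n)).mpr this
    exact ⟨_, (totalDegree_eq_zero_iff_eq_C.mp h0)⟩
  choose c hc using h1
  refine ⟨Matrix.of fun i j => c j i, fun R _ _ v j => ?_⟩
  have h2 := (hf j).sum_X_mul_pderiv
  rw [one_smul] at h2
  rw [← h2, map_sum]
  simp only [map_mul, aeval_X, hc, aeval_C, Matrix.vecMul, dotProduct, Matrix.map_apply, Matrix.of_apply]

/-- Main theorem for `n ≥ 2`: natural automorphisms of the functor of lines are linear. -/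
theorem exists_linear (L L' : LineRel K n) (hLL : ∀ (R : Type u) [CommRing R] [Algebra K R] (v w : Fin n → R),
    L.T R v w → L'.T R w v) (hn : 2 ≤ n) :
    ∃ M : Matrix (Fin n) (Fin n) K, IsUnit M ∧ ∀ (R : Type u) [CommRing R] [IsLocalRing R] [Algebra K R] (v : Fin n → R),
      Um v → L.T R v (Matrix.vecMul v (M.map (algebraMap K R))) := by
  have hn0 : 0 < n := by omega
  obtain ⟨f, hf, hT⟩ := exists_generic L hn0
  obtain ⟨f', hf', hT'⟩ := exists_generic L' hn0
  obtain ⟨d, hd⟩ := exists_homogeneous L hn0 f hf hT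
  obtain ⟨d', hd'⟩ := exists_homogeneous L' hn0 f' hf' hT'
  -- composition
  have hcomp : ∀ (R : Type u) [CommRing R] [IsLocalRing R] [Algebra K R] (v : Fin n → R), Um v →
      Um (fun j => aeval (fun i => aeval v (f i)) (f' j)) ∧
      ∃ c : Rˣ, (fun j => aeval (fun i => aeval v (f i)) (f' j)) = (c : R) • v := by
    intro R _ _ _ v hv
    obtain ⟨h1, h2⟩ := at_local L f hf hT R v hv
    obtain ⟨h3, h4⟩ := at_local L' f' hf' hT' R _ h1
    refine ⟨h3, ?_⟩
    exact L'.uniq R _ _ _ h1 hv h3 (hLL R _ _ h2) h4
  let h : Fin n → P K n := fun j => aeval f (f' j)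
  have hh : ∀ (R : Type u) [CommRing R] [Algebra (P K n) R] [Algebra K R] [IsScalarTower K (P K n) R] (j : Fin n),
      aeval (fun i => aeval (fun l => algebraMap (P K n) R (X l)) (f i)) (f' j) = algebraMap (P K n) R (h j) := by
    intro R _ _ _ _ j
    have h1 : ∀ i, aeval (fun l => algebraMap (P K n) R (X l)) (f i) = algebraMap (P K n) R (f i) := by
      intro i
      refine (aeval_algebraMap_apply (B := R) (fun l => (X l : P K n)) (f i)).trans ?_
      rw [aeval_X_left_apply]
    simp only [h1]
    exact aeval_algebraMap_apply (B := R) f (f' j)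
  let F := FractionRing (P K n)
  have humF : Um (fun i : Fin n => algebraMap (P K n) F (X i)) := ⟨⟨0, hn0⟩, by rw [isUnit_iff_ne_zero]; simp [F]⟩
  obtain ⟨-, c, hc⟩ := hcomp F _ humF
  have hc' : ∀ j, algebraMap (P K n) F (h j) = (c : F) * algebraMap (P K n) F (X j) := by
    intro j
    rw [← hh F j]
    exact congrFun hc j
  have hne : ∀ j, h j ≠ 0 := by
    intro j h0
    have := hc' j
    rw [h0, map_zero] at this
    have h1 : algebraMap (P K n) F (X j) ≠ 0 := by simp [F]
    exact (mul_ne_zero c.ne_zero h1) this.symm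
  have hcross : ∀ i j, h i * X j = h j * X i := by
    intro i j
    apply FaithfulSMul.algebraMap_injective (P K n) F
    rw [map_mul, map_mul, hc', hc']
    ring
  have hXne : ∀ i j : Fin n, i ≠ j → ¬ (X i : P K n) ∣ X j := by
    intro i j hij hdvd
    exact hij (X_dvd_X.mp hdvd)
  let i0 : Fin n := ⟨0, by omega⟩
  let i1 : Fin n := ⟨1, by omega⟩
  have h01 : i0 ≠ i1 := by simp [i0, i1]
  obtain ⟨q, hq⟩ : (X i0 : P K n) ∣ h i0 := by
    have h1 : (X i0 : P K n) ∣ h i0 * X i1 := ⟨h i1, by rw [hcross i0 i1]; ring⟩
    exact ((X_prime (i := i0)).dvd_or_dvd h1).resolve_right (hXne _ _ h01)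
  have hq' : ∀ j, h j = q * X j := by
    intro j
    have h1 := hcross i0 j
    rw [hq] at h1
    apply mul_right_cancel₀ (X_ne_zero (R := K) i0)
    rw [← h1]
    ring
  have hq0 : q ≠ 0 := by
    rintro rfl
    exact hne i0 (by rw [hq' i0, zero_mul])
  have hqu : IsUnit q := by
    by_contra hnu
    obtain ⟨π, hπ, hπq⟩ := WfDvdMonoid.exists_irreducible_factor hnu hq0
    have hπp : Prime π := hπ.prime
    let p : Ideal (P K n) := Ideal.span {π}
    have hp : p.IsPrime := (Ideal.span_singleton_prime hπp.ne_zero).mpr hπp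
    have hmem : ∀ a, a ∈ p ↔ π ∣ a := fun a => Ideal.mem_span_singleton
    have hex : ∃ i, (X i : P K n) ∉ p := by
      by_contra hall
      push Not at hall
      have h1 := (hmem _).mp (hall i0)
      have h2 := (hmem _).mp (hall i1)
      have h3 : Associated π (X i0) := hπp.associated_of_dvd (X_prime (i := i0)) h1
      exact hXne _ _ h01 (h3.symm.dvd.trans h2)
    have humX : Um (fun i : Fin n => algebraMap (P K n) (Localization.AtPrime p) (X i)) := by
      obtain ⟨i, hi⟩ := hex
      exact ⟨i, IsLocalization.map_units (Localization.AtPrime p) (⟨X i, hi⟩ : p.primeCompl)⟩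
    obtain ⟨⟨j, hj⟩, -⟩ := hcomp (Localization.AtPrime p) _ humX
    change IsUnit (aeval (fun i => aeval (fun l => algebraMap (P K n) (Localization.AtPrime p) (X l)) (f i)) (f' j)) at hj
    rw [hh (Localization.AtPrime p) j, IsLocalization.AtPrime.isUnit_to_map_iff (Localization.AtPrime p) p] at hj
    refine hj ((hmem _).mpr ?_)
    rw [hq' j]
    exact hπq.mul_right _
  obtain ⟨a, ha, rfl⟩ := (isUnit_iff_eq_C_of_isReduced.mp hqu)
  -- degrees
  have hdeg : (h i0).IsHomogeneous (d * d') := (hd' i0).aeval f hd
  have hdeg1 : (h i0).IsHomogeneous 1 := by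
    rw [hq' i0]
    exact isHomogeneous_C_mul_X a i0
  have hdd : d * d' = 1 := hdeg.inj_right hdeg1 (hne i0)
  obtain ⟨rfl, rfl⟩ : d = 1 ∧ d' = 1 := by
    constructor
    · exact Nat.eq_one_of_mul_eq_one_right hdd
    · exact Nat.eq_one_of_mul_eq_one_left hdd
  obtain ⟨M, hM⟩ := exists_matrix f hd
  obtain ⟨M', hM'⟩ := exists_matrix f' hd'
  refine ⟨M, ?_, ?_⟩
  · have hMM : M * M' = a • (1 : Matrix (Fin n) (Fin n) K) := by
      ext i j
      -- evaluate `h j` at the `i`-th basis vector
      have h1 : aeval (Pi.single i (1 : K) : Fin n → K) (h j) = a * (Pi.single i (1 : K) : Fin n → K) j := by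
        rw [hq' j]
        simp
      have h2 : aeval (Pi.single i (1 : K) : Fin n → K) (h j) =
          Matrix.vecMul (Matrix.vecMul (Pi.single i (1 : K)) M) M' j := by
        have h3 : aeval (Pi.single i (1 : K) : Fin n → K) (h j) =
            aeval (fun l => aeval (Pi.single i (1 : K) : Fin n → K) (f l)) (f' j) := by
          change aeval _ (aeval f (f' j)) = _
          rw [← comp_aeval_apply]
        rw [h3, hM' K]
        have h4 : (fun l => aeval (Pi.single i (1 : K) : Fin n → K) (f l)) = Matrix.vecMul (Pi.single i (1 : K)) M := by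
          funext l
          rw [hM K]
          congr 1
        rw [h4]
        congr 1
      rw [h1, Matrix.vecMul_vecMul, Matrix.single_one_vecMul] at h2
      rw [Matrix.smul_apply, Matrix.one_apply, smul_eq_mul]
      rw [← Matrix.row_apply (M * M') i j, ← h2, Pi.single_apply]
      simp only [eq_comm]
    have ha0 : a ≠ 0 := ha.ne_zero
    refine (Matrix.isUnit_iff_isUnit_det _).mpr ?_
    have h5 : M.det * M'.det = a ^ n := by
      rw [← Matrix.det_mul, hMM, Matrix.det_smul, Matrix.det_one, mul_one, Fintype.card_fin]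
    exact isUnit_iff_ne_zero.mpr (left_ne_zero_of_mul (h5.trans_ne (pow_ne_zero n ha0)))
  · intro R _ _ _ v hv
    obtain ⟨-, h2⟩ := at_local L f hf hT R v hv
    convert h2 using 1
    funext j
    exact (hM R v j).symm

end K845.LineAut
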