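import Groth.Agent.BddFin.K845.LineAut
import Mathlib.RingTheory.Spectrum.Prime.FreeLocus
import Mathlib.RingTheory.LocalRing.Module
import Mathlib.LinearAlgebra.Quotient.Pi

/-!
# Rank one direct summands of `R^n` over a local ring
-/

set_option autoImplicit false
universe u

open Module

namespace K845.LocLine

open K845.LineAut

variable {R : Type u} [CommRing R] {n : ℕ}

/-- The splitting `R^n ≃ R × R^n / (R v)`. -/
theorem exists_equiv (v : Fin n → R) (hv : Um v) :
    Nonempty ((Fin n → R) ≃ₗ[R] (R × ((Fin n → R) ⧸ (Submodule.span R {v})))) := by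
  obtain ⟨i, ⟨c, hc⟩⟩ := hv
  let s : (Fin n → R) →ₗ[R] R := ((c⁻¹ : Rˣ) : R) • LinearMap.proj i
  have hs : s v = 1 := by
    simp only [s, LinearMap.smul_apply, LinearMap.proj_apply, smul_eq_mul, ← hc]
    exact c.inv_mul
  let e : (Fin n → R) →ₗ[R] (R × ((Fin n → R) ⧸ (Submodule.span R {v}))) := s.prod (Submodule.mkQ _)
  refine ⟨LinearEquiv.ofBijective e ⟨?_, ?_⟩⟩
  · rw [← LinearMap.ker_eq_bot, LinearMap.ker_eq_bot']
    intro x hx
    have h1 : s x = 0 := congrArg Prod.fst hx
    have h2 : (Submodule.span R {v}).mkQ x = 0 := congrArg Prod.snd hx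
    rw [Submodule.mkQ_apply, Submodule.Quotient.mk_eq_zero, Submodule.mem_span_singleton] at h2
    obtain ⟨r, rfl⟩ := h2
    rw [map_smul, hs, smul_eq_mul, mul_one] at h1
    rw [h1, zero_smul]
  · rintro ⟨r, q⟩
    obtain ⟨y, rfl⟩ := Submodule.mkQ_surjective _ q
    refine ⟨y + (r - s y) • v, ?_⟩
    have h3 : (Submodule.span R {v}).mkQ ((r - s y) • v) = 0 := by
      rw [Submodule.mkQ_apply, Submodule.Quotient.mk_eq_zero]
      exact Submodule.smul_mem _ _ (Submodule.mem_span_singleton_self v)
    refine Prod.ext ?_ ?_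
    · change s _ = r
      rw [map_add, map_smul, hs, smul_eq_mul, mul_one]
      ring
    · change (Submodule.span R {v}).mkQ _ = _
      rw [map_add, h3, add_zero]

theorem projective_quotient (v : Fin n → R) (hv : Um v) :
    Module.Projective R ((Fin n → R) ⧸ (Submodule.span R {v})) := by
  obtain ⟨e⟩ := exists_equiv v hv
  refine Module.Projective.of_split (e.symm.toLinearMap ∘ₗ LinearMap.inr R R _) (LinearMap.snd R R _ ∘ₗ e.toLinearMap) ?_
  ext x
  simp

theorem rank_quotient [IsLocalRing R] (v : Fin n → R) (hv : Um v) (p : PrimeSpectrum R) :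
    rankAtStalk ((Fin n → R) ⧸ (Submodule.span R {v})) p = n - 1 := by
  have := projective_quotient v hv
  obtain ⟨e⟩ := exists_equiv v hv
  have h1 := congrFun (rankAtStalk_eq_of_equiv e) p
  rw [rankAtStalk_prod, Pi.add_apply, rankAtStalk_self, rankAtStalk_eq_finrank_of_free] at h1
  simp only [Pi.one_apply, Pi.natCast_apply, Module.finrank_fin_fun, Nat.cast_id] at h1
  omega

theorem exists_um [IsLocalRing R] (hn : 0 < n) (L : Submodule R (Fin n → R)) [Module.Projective R ((Fin n → R) ⧸ L)]
    (h : ∀ p : PrimeSpectrum R, rankAtStalk ((Fin n → R) ⧸ L) p = n - 1) : ∃ v, Um v ∧ L = Submodule.span R {v} := by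
  obtain ⟨g, hg⟩ := Module.projective_lifting_property L.mkQ LinearMap.id L.mkQ_surjective
  have hg' : ∀ q, L.mkQ (g q) = q := fun q => LinearMap.congr_fun hg q
  -- the retraction onto `L`
  have hmem : ∀ x, x - g (L.mkQ x) ∈ L := by
    intro x
    rw [← Submodule.Quotient.mk_eq_zero, ← Submodule.mkQ_apply, map_sub, hg', sub_self]
  let ρ : (Fin n → R) →ₗ[R] L := LinearMap.codRestrict L (LinearMap.id - g ∘ₗ L.mkQ) hmem
  have hρ : ∀ x : L, ρ x = x := by
    intro x
    apply Subtype.ext
    change (x : Fin n → R) - g (L.mkQ x) = x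
    have : L.mkQ (x : Fin n → R) = 0 := by simp
    rw [this, map_zero, sub_zero]
  have hproj : Module.Projective R L := Module.Projective.of_split L.subtype ρ (by ext1 x; exact hρ x)
  have hfin : Module.Finite R L := Module.Finite.of_surjective ρ (fun x => ⟨x, hρ x⟩)
  let e : (Fin n → R) →ₗ[R] (L × ((Fin n → R) ⧸ L)) := ρ.prod L.mkQ
  have he : Function.Bijective e := by
    constructor
    · rw [← LinearMap.ker_eq_bot, LinearMap.ker_eq_bot']
      intro x hx
      have h1 : ρ x = 0 := congrArg Prod.fst hx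
      have h2 : L.mkQ x = 0 := congrArg Prod.snd hx
      have hxL : x ∈ L := by simpa using h2
      have h3 := hρ ⟨x, hxL⟩
      rw [h1] at h3
      exact (congrArg Subtype.val h3).symm
    · rintro ⟨l, q⟩
      refine ⟨l + g q, ?_⟩
      have hl : L.mkQ (l : Fin n → R) = 0 := by simp
      refine Prod.ext ?_ ?_
      · change ρ _ = l
        rw [map_add, hρ]
        have : ρ (g q) = 0 := by
          apply Subtype.ext
          change g q - g (L.mkQ (g q)) = 0
          rw [hg', sub_self]
        rw [this, add_zero]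
      · change L.mkQ _ = q
        rw [map_add, hg', hl, zero_add]
  have hfree : Module.Free R L := Module.free_of_flat_of_isLocalRing
  have hrank : finrank R L = 1 := by
    have p : PrimeSpectrum R := IsLocalRing.closedPoint R
    have h1 := congrFun (rankAtStalk_eq_of_equiv (LinearEquiv.ofBijective e he)) p
    rw [rankAtStalk_prod, Pi.add_apply, h, rankAtStalk_eq_finrank_of_free, rankAtStalk_eq_finrank_of_free] at h1
    simp only [Pi.natCast_apply, Module.finrank_fin_fun, Nat.cast_id] at h1
    omega
  let b := Module.finBasisOfFinrankEq R L hrank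
  refine ⟨b 0, ?_, ?_⟩
  · -- the coordinate of `v` is one
    by_contra hnu
    have h1 : (b.coord 0 ∘ₗ ρ) (b 0 : Fin n → R) = 1 := by
      rw [LinearMap.comp_apply, hρ]
      simp
    have h2 : (b.coord 0 ∘ₗ ρ) (b 0 : Fin n → R) ∈ IsLocalRing.maximalIdeal R := by
      rw [LinearMap.pi_apply_eq_sum_univ (b.coord 0 ∘ₗ ρ)]
      refine Ideal.sum_mem _ fun i _ => ?_
      rw [smul_eq_mul]
      refine Ideal.mul_mem_right _ _ ?_
      rw [IsLocalRing.mem_maximalIdeal, mem_nonunits_iff]
      exact fun hi => hnu ⟨i, hi⟩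
    rw [h1] at h2
    exact (IsLocalRing.maximalIdeal R).one_notMem h2
  · apply le_antisymm
    · intro x hx
      have h1 := b.sum_repr ⟨x, hx⟩
      rw [Fin.sum_univ_one] at h1
      rw [Submodule.mem_span_singleton]
      exact ⟨_, congrArg Subtype.val h1⟩
    · rw [Submodule.span_singleton_le_iff_mem]
      exact (b 0).2

theorem projective_pi (M : Type u) [AddCommGroup M] [Module R M] [Module.Projective R M] :
    Module.Projective R (Fin n → M) :=
  Module.Projective.of_equiv (DirectSum.linearEquivFunOnFintype R (Fin n) (fun _ => M))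

/-- `(R^n / L)^n` and rank. -/
theorem rank_pi (M : Type u) [AddCommGroup M] [Module R M] [Module.Finite R M] [Module.Projective R M]
    (p : PrimeSpectrum R) : rankAtStalk (Fin n → M) p = n * rankAtStalk (R := R) M p := by
  rw [rankAtStalk_pi, finsum_eq_sum_of_fintype]
  simp

end K845.LocLine
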