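import Groth.Agent.Agf.H592.UnionConj
import Groth.Agent.Sga3B.RG.TorConj
import Groth.Agent.Sga3B.RG.TrigTorus
import Groth.Agent.Sga3B.RG.PbNorm838
import Groth.Agent.Sga3B.RG.PbBorel

/-!
# Points of finite order prime to the characteristic lie in tori (algebraically closed fields)

`K` algebraically closed, `A` a finitely generated Hopf domain over `K`.

* `exists_torus_of_trig`, `exists_torus_of_isCCS`, `exists_torus`.
-/

set_option autoImplicit false

universe u

open Groth.Agent.Sga3B.RG Groth.Agent.Sga3B.Parab.BorelPts172 Groth.Agent.Sga3B.RG.PbShape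

namespace K845.PtTorus

variable {K : Type u} [Field K] [IsAlgClosed K] {A : Type u} [CommRing A] [HopfAlgebra K A]
  [Algebra.FiniteType K A]

/-- trigonalizable groups -/
theorem exists_torus_of_trig [IsDomain A] (hT : Trig.IsTrig K A) {x : Pt K A} {m : ℕ}
    (hm : (m : K) ≠ 0) (hx : x ^ m = 1) :
    ∃ T : Subgroup (Pt K A), IsTorusSub T ∧ x ∈ T := by
  obtain ⟨T, hT1, hT2, hT3⟩ := TrigTorus.exists_torus hT
  have hm0 : m ≠ 0 := by
    rintro rfl
    exact hm Nat.cast_zero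
  have hfo : IsOfFinOrder x := isOfFinOrder_iff_pow_eq_one.2 ⟨m, Nat.pos_of_ne_zero hm0, hx⟩
  have hfin : Finite (Subgroup.zpowers x) := hfo.finite_zpowers
  have hcard : (Nat.card (Subgroup.zpowers x) : K) ≠ 0 := by
    rw [Nat.card_zpowers]
    obtain ⟨d, hd⟩ := orderOf_dvd_of_pow_eq_one hx
    intro h0
    apply hm
    rw [hd, Nat.cast_mul, h0, zero_mul]
  have hnorm : (Trig.Gu K A).Normal := inferInstance
  obtain ⟨c, hc, h⟩ := exists_conj_of_finite (G := (⊤ : Subgroup (Pt K A))) (N := Trig.Gu K A) (S := T)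
    le_top (by rw [Subgroup.normalizer_eq_top]) Trig.isCl_Gu (fun g hg => (Trig.isUnip_iff hT g).2 hg) le_top hT2
    (fun g _ => by
      obtain ⟨s, hs, u, hu, rfl⟩ := hT3 g
      exact ⟨s, hs, by rwa [inv_mul_cancel_left]⟩)
    (Subgroup.zpowers x) le_top hcard
  refine ⟨T.map (MulAut.conj c⁻¹).toMonoidHom, hT1.1.conj c⁻¹, c * x * c⁻¹, h x (Subgroup.mem_zpowers x), ?_⟩
  simp [mul_assoc]

/-- closed connected solvable subgroups -/
theorem exists_torus_of_isCCS {B : Subgroup (Pt K A)} (hB : IsCCS B) {x : Pt K A} (hxB : x ∈ B) {m : ℕ}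
    (hm : (m : K) ≠ 0) (hx : x ^ m = 1) :
    ∃ T : Subgroup (Pt K A), IsTorusSub T ∧ x ∈ T ∧ T ≤ B := by
  let φ := Bialgebra.Quotient.mkBialgHom (R := K) (vanIdeal (B : Set (Pt K A)))
  have hφ : Function.Surjective φ := Ideal.Quotient.mk_surjective
  have hrange : (Pt.map φ).range = B := range_quotMap_vanIdeal B hB.isCl
  have hdom : IsDomain (A ⧸ vanIdeal (B : Set (Pt K A))) := isDomain_quot_of_isConn hB.isConn
  have hinj : Function.Injective (Pt.map φ) := Pt.map_injective hφ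
  have hs : Group.IsSolvable (Pt K (A ⧸ vanIdeal (B : Set (Pt K A)))) := by
    have := hB.isSolvable
    let f : Pt K (A ⧸ vanIdeal (B : Set (Pt K A))) →* B :=
      (Pt.map φ).codRestrict B (fun y => hrange.le ⟨y, rfl⟩)
    exact Group.isSolvable_of_isSolvable_injective (f := f) fun y z hyz => hinj (congrArg Subtype.val hyz)
  obtain ⟨y, rfl⟩ := hrange.ge hxB
  obtain ⟨T, hT, hyT⟩ := exists_torus_of_trig (PbBorel.isTrig_of_isSolvable hs) hm (x := y)
    (hinj (by rw [map_pow, hx, map_one]))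
  refine ⟨T.map (Pt.map φ), (isTorusSub_map_iff hφ).2 hT, ⟨y, hyT, rfl⟩, ?_⟩
  rintro _ ⟨t, -, rfl⟩
  exact hrange.le ⟨t, rfl⟩

/-- **Points of finite order prime to the characteristic of a connected group lie in tori.** -/
theorem exists_torus [IsDomain A] {x : Pt K A} {m : ℕ} (hm : (m : K) ≠ 0) (hx : x ^ m = 1) :
    ∃ T : Subgroup (Pt K A), IsTorusSub T ∧ x ∈ T := by
  obtain ⟨B, hB⟩ := exists_isBorelPt K A
  obtain ⟨g, hg⟩ := Groth.Agent.Agf.H592.UnionConj.exists_conj_mem hB x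
  obtain ⟨T, hT, hxT, -⟩ := exists_torus_of_isCCS hB.toIsCCS hg hm (by
    have : g⁻¹ * x * g = g⁻¹ * x * (g⁻¹)⁻¹ := by rw [inv_inv]
    rw [this, conj_pow, hx, mul_one, inv_inv, inv_mul_cancel])
  refine ⟨T.map (MulAut.conj g).toMonoidHom, hT.conj g, g⁻¹ * x * g, hxT, ?_⟩
  simp [mul_assoc]

end K845.PtTorus
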