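import Groth.Prelude.Def_BrSev2
import Mathlib.AlgebraicGeometry.Gluing

/-!
# Morphisms over `Spec k` are natural families of maps on points with values in `k`-algebras
-/

set_option autoImplicit false
universe u

open CategoryTheory CategoryTheory.Limits AlgebraicGeometry BrSev

namespace K845.PtsGlue

section Ring

variable {X Y : Scheme.{u}}

/-- Extensionality: a morphism is determined by its values on points in rings. -/
theorem hom_ext_affine {Z W : Scheme.{u}} (a b : Z ⟶ W)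
    (h : ∀ (R : CommRingCat.{u}) (s : Spec R ⟶ Z), s ≫ a = s ≫ b) : a = b :=
  Scheme.Cover.hom_ext Z.affineCover _ _ fun i => h _ (Z.affineCover.f i)

/-- Extensionality for morphisms to be checked on points that lift to a cover of the target of `z`. -/
theorem hom_ext_lift {Z W : Scheme.{u}} (z : Z ⟶ X) (𝒰 : X.OpenCover) (a b : Z ⟶ W)
    (h : ∀ (R : CommRingCat.{u}) (s : Spec R ⟶ Z) (i : 𝒰.I₀) (t : Spec R ⟶ 𝒰.X i), s ≫ z = t ≫ 𝒰.f i → s ≫ a = s ≫ b) :
    a = b := by
  refine Scheme.Cover.hom_ext (𝒰.pullback₁ z) _ _ fun (i : 𝒰.I₀) => ?_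
  change pullback.fst z (𝒰.f i) ≫ a = pullback.fst z (𝒰.f i) ≫ b
  refine hom_ext_affine _ _ fun R s => ?_
  rw [← Category.assoc, ← Category.assoc]
  refine h R _ i (s ≫ pullback.snd z (𝒰.f i)) ?_
  rw [Category.assoc, Category.assoc, pullback.condition]

/-- Gluing for an affine open cover. -/
theorem exists_hom_of_cover (𝒰 : X.OpenCover) (A : 𝒰.I₀ → CommRingCat.{u}) (e : ∀ i, Spec (A i) ≅ 𝒰.X i)
    (σ : ∀ (R : CommRingCat.{u}) (_ : Spec R ⟶ X), Spec R ⟶ Y)
    (hσ : ∀ (R S : CommRingCat.{u}) (φ : R ⟶ S) (s : Spec R ⟶ X), σ S (Spec.map φ ≫ s) = Spec.map φ ≫ σ R s) :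
    ∃ h : X ⟶ Y, ∀ (R : CommRingCat.{u}) (s : Spec R ⟶ X), σ R s = s ≫ h := by
  have hσ' : ∀ (R S : CommRingCat.{u}) (t : Spec S ⟶ Spec R) (s : Spec R ⟶ X), σ S (t ≫ s) = t ≫ σ R s := by
    intro R S t s
    obtain ⟨φ, rfl⟩ := Spec.map_surjective t
    exact hσ R S φ s
  have hcov : ∀ i j, pullback.fst (𝒰.f i) (𝒰.f j) ≫ (e i).inv ≫ σ (A i) ((e i).hom ≫ 𝒰.f i) =
      pullback.snd (𝒰.f i) (𝒰.f j) ≫ (e j).inv ≫ σ (A j) ((e j).hom ≫ 𝒰.f j) := by
    intro i j
    refine hom_ext_affine _ _ fun S s => ?_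
    have h1 := hσ' (A i) S (s ≫ pullback.fst (𝒰.f i) (𝒰.f j) ≫ (e i).inv) ((e i).hom ≫ 𝒰.f i)
    have h2 := hσ' (A j) S (s ≫ pullback.snd (𝒰.f i) (𝒰.f j) ≫ (e j).inv) ((e j).hom ≫ 𝒰.f j)
    simp only [Category.assoc, Iso.inv_hom_id_assoc] at h1 h2
    rw [← h1, ← h2, pullback.condition]
  refine ⟨𝒰.glueMorphisms _ hcov, fun R s => ?_⟩
  have hh : ∀ i, 𝒰.f i ≫ 𝒰.glueMorphisms _ hcov = (e i).inv ≫ σ (A i) ((e i).hom ≫ 𝒰.f i) := fun i =>
    Scheme.Cover.ι_glueMorphisms 𝒰 _ _ i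
  refine hom_ext_lift s 𝒰 _ _ fun S r i t hrt => ?_
  rw [← Category.assoc, hrt, Category.assoc, hh, ← hσ' R S r s, hrt]
  have h1 := hσ' (A i) S (t ≫ (e i).inv) ((e i).hom ≫ 𝒰.f i)
  simp only [Category.assoc, Iso.inv_hom_id_assoc] at h1
  exact h1

/-- Gluing: a natural family on ring-valued points comes from a morphism. -/
theorem exists_hom_ring
    (σ : ∀ (R : CommRingCat.{u}) (_ : Spec R ⟶ X), Spec R ⟶ Y)
    (hσ : ∀ (R S : CommRingCat.{u}) (φ : R ⟶ S) (s : Spec R ⟶ X), σ S (Spec.map φ ≫ s) = Spec.map φ ≫ σ R s) :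
    ∃ h : X ⟶ Y, ∀ (R : CommRingCat.{u}) (s : Spec R ⟶ X), σ R s = s ≫ h :=
  exists_hom_of_cover X.affineCover (fun i => Γ(X.affineCover.X i, ⊤))
    (fun i => (X.affineCover.X i).isoSpec.symm) σ hσ

end Ring

variable {k : Type u} [Field k] {X Y Z : Scheme.{u}} (f : X ⟶ Spec (CommRingCat.of k))
  (g : Y ⟶ Spec (CommRingCat.of k)) (z : Z ⟶ Spec (CommRingCat.of k))

/-- The morphism underlying a point. -/
def pt {R : Type u} [CommRing R] [Algebra k R] (x : Pts f R) : Spec (CommRingCat.of R) ⟶ X := Subtype.val (p := _) x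

/-- Constructor for points. -/
def mkPt {R : Type u} [CommRing R] [Algebra k R] (s : Spec (CommRingCat.of R) ⟶ X)
    (hs : s ≫ f = Spec.map (CommRingCat.ofHom (algebraMap k R))) : Pts f R := ⟨s, hs⟩

@[simp] theorem pt_mkPt {R : Type u} [CommRing R] [Algebra k R] (s : Spec (CommRingCat.of R) ⟶ X)
    (hs : s ≫ f = Spec.map (CommRingCat.ofHom (algebraMap k R))) : pt f (mkPt f s hs) = s := rfl

theorem pt_comp {R : Type u} [CommRing R] [Algebra k R] (x : Pts f R) :
    pt f x ≫ f = Spec.map (CommRingCat.ofHom (algebraMap k R)) := x.2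

theorem pt_injective {R : Type u} [CommRing R] [Algebra k R] {x y : Pts f R} (h : pt f x = pt f y) : x = y :=
  Subtype.ext h

theorem pt_map {R S : Type u} [CommRing R] [Algebra k R] [CommRing S] [Algebra k S] (φ : R →ₐ[k] S) (x : Pts f R) :
    pt f (Pts.map f φ x) = Spec.map (CommRingCat.ofHom (φ : R →+* S)) ≫ pt f x := rfl

/-- The `k`-algebra structure on `R` attached to a morphism `Spec R ⟶ Spec k`. -/
noncomputable abbrev algOf {R : Type u} [CommRing R] (z : Spec (CommRingCat.of R) ⟶ Spec (CommRingCat.of k)) : Algebra k R :=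
  (Spec.preimage z).hom.toAlgebra

theorem spec_algebraMap_algOf {R : Type u} [CommRing R] (z : Spec (CommRingCat.of R) ⟶ Spec (CommRingCat.of k)) :
    z = Spec.map (CommRingCat.ofHom (@algebraMap k R _ _ (algOf z))) := by
  have : CommRingCat.ofHom (@algebraMap k R _ _ (algOf z)) = Spec.preimage z := by
    ext x; rfl
  rw [this, Spec.map_preimage]

/-- Morphisms over `k` are determined by their values on points in `k`-algebras. -/
theorem hom_ext_pts {W : Scheme.{u}} (a b : X ⟶ W)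
    (h : ∀ (R : Type u) [CommRing R] [Algebra k R] (x : Pts f R), pt f x ≫ a = pt f x ≫ b) : a = b := by
  refine hom_ext_affine _ _ fun R s => ?_
  let : Algebra k R := algOf (s ≫ f)
  exact h R (mkPt f s (spec_algebraMap_algOf _))

theorem algHom_of_spec {R S : Type u} [CommRing R] [CommRing S] [iR : Algebra k R] [iS : Algebra k S]
    (φ : R →+* S) (h : Spec.map (CommRingCat.ofHom (algebraMap k S)) =
      Spec.map (CommRingCat.ofHom φ) ≫ Spec.map (CommRingCat.ofHom (algebraMap k R))) (r : k) :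
    φ (algebraMap k R r) = algebraMap k S r := by
  rw [← Spec.map_comp] at h
  have h2 := Spec.map_injective h
  have h3 := congrArg (fun z => z.hom r) h2
  simpa using h3.symm

/-- Gluing: a natural family of maps on points comes from a morphism. -/
theorem exists_hom (τ : ∀ (R : Type u) [CommRing R] [Algebra k R], Pts f R → Pts g R)
    (hτ : ∀ (R S : Type u) [CommRing R] [Algebra k R] [CommRing S] [Algebra k S] (φ : R →ₐ[k] S) (x : Pts f R),
      τ S (Pts.map f φ x) = Pts.map g φ (τ R x)) :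
    ∃ h : X ⟶ Y, h ≫ g = f ∧ ∀ (R : Type u) [CommRing R] [Algebra k R] (x : Pts f R), pt g (τ R x) = pt f x ≫ h := by
  -- values on arbitrary morphisms from affine schemes
  let σ : ∀ (R : CommRingCat.{u}) (_ : Spec R ⟶ X), Spec R ⟶ Y :=
    fun R s => letI : Algebra k R := algOf (s ≫ f); pt g (τ R (mkPt f s (spec_algebraMap_algOf _)))
  have hσg : ∀ (R : CommRingCat.{u}) (s : Spec R ⟶ X), σ R s ≫ g = s ≫ f := by
    intro R s
    let : Algebra k R := algOf (s ≫ f)
    have h1 := pt_comp g (τ R (mkPt f s (spec_algebraMap_algOf (s ≫ f))))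
    exact h1.trans (spec_algebraMap_algOf (s ≫ f)).symm
  have key : ∀ (R S : CommRingCat.{u}) [iR : Algebra k R] (φ : R ⟶ S) (x : Pts f R),
      σ S (Spec.map φ ≫ pt f x) = Spec.map φ ≫ pt g (τ R x) := by
    intro R S iR φ x
    let iS : Algebra k S := algOf ((Spec.map φ ≫ pt f x) ≫ f)
    have hc : ∀ r : k, φ.hom (algebraMap k R r) = algebraMap k S r := by
      refine algHom_of_spec φ.hom ?_
      rw [← pt_comp f x, CommRingCat.ofHom_hom, ← Category.assoc]
      exact (spec_algebraMap_algOf ((Spec.map φ ≫ pt f x) ≫ f)).symm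
    let φ' : R →ₐ[k] S := { φ.hom with commutes' := hc }
    have h4 := hτ R S φ' x
    exact congrArg (pt g) h4
  obtain ⟨h, hh⟩ := exists_hom_ring σ (by
    intro R S φ s
    let : Algebra k R := algOf (s ≫ f)
    exact key R S φ (mkPt f s (spec_algebraMap_algOf (s ≫ f))))
  refine ⟨h, ?_, ?_⟩
  · refine hom_ext_affine _ _ fun R s => ?_
    rw [← Category.assoc, ← hh, hσg]
  · intro R _ _ x
    have h1 := key (CommRingCat.of R) (CommRingCat.of R) (𝟙 _) x
    rw [Spec.map_id, Category.id_comp, Category.id_comp, hh] at h1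
    exact h1.symm

end K845.PtsGlue
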