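import Groth.Agent.BddFin.K845.SBBase

/-!
# The Severi-Brauer functor: functoriality and right multiplication by units
-/

set_option autoImplicit false
universe u

open scoped TensorProduct

namespace K845.SBAct

open K845.SBBase BrSev

variable {k : Type u} [Field k] {A : Type u} [Ring A] [Algebra k A] {c : ℕ}
variable {R S T : Type u} [CommRing R] [Algebra k R] [CommRing S] [Algebra k S] [CommRing T] [Algebra k T]

/-- The underlying point of the Grassmannian. -/
def gr (N : SBSet k A c R) : Module.Grassmannian R (R ⊗[k] A) c := Subtype.val (p := _) N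

/-- The underlying left ideal. -/
def sub (N : SBSet k A c R) : Submodule R (R ⊗[k] A) := (gr N).toSubmodule

theorem mul_mem (N : SBSet k A c R) (a x : R ⊗[k] A) (hx : x ∈ sub N) : a * x ∈ sub N := N.2 a x hx

/-- Constructor. -/
def mk (G : Module.Grassmannian R (R ⊗[k] A) c)
    (h : ∀ a x : R ⊗[k] A, x ∈ G.toSubmodule → a * x ∈ G.toSubmodule) : SBSet k A c R := ⟨G, h⟩

@[simp] theorem gr_mk (G : Module.Grassmannian R (R ⊗[k] A) c) (h) : gr (mk (k := k) (A := A) G h) = G := rfl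
theorem sub_mk (G : Module.Grassmannian R (R ⊗[k] A) c) (h) : sub (mk (k := k) (A := A) G h) = G.toSubmodule := rfl

theorem SBSet.ext' {N₁ N₂ : SBSet k A c R} (h : sub N₁ = sub N₂) : N₁ = N₂ :=
  Subtype.ext (Module.Grassmannian.ext h)

/-- Functoriality of the Severi-Brauer functor. -/
noncomputable def smap (φ : R →ₐ[k] S) (N : SBSet k A c R) : SBSet k A c S :=
  mk (Module.Grassmannian.map φ (gr N)) (by
    intro a x hx
    rw [map_eq_span] at hx ⊢
    induction hx using Submodule.span_induction with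
    | zero => rw [mul_zero]; exact zero_mem _
    | add x y _ _ hx hy => rw [mul_add]; exact add_mem hx hy
    | smul s x _ hx => rw [mul_smul_comm]; exact Submodule.smul_mem _ _ hx
    | mem y hy =>
      obtain ⟨x, hx, rfl⟩ := hy
      induction a using TensorProduct.induction_on with
      | zero => rw [zero_mul]; exact zero_mem _
      | add a b ha hb => rw [add_mul]; exact add_mem ha hb
      | tmul s b =>
        have h1 : (s ⊗ₜ[k] b : S ⊗[k] A) = s • tmap A φ (1 ⊗ₜ[k] b) := by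
          simp [TensorProduct.smul_tmul']
        rw [h1, smul_mul_assoc, ← map_mul]
        exact Submodule.smul_mem _ _ (Submodule.subset_span ⟨_, mul_mem N _ _ hx, rfl⟩))

theorem sub_smap (φ : R →ₐ[k] S) (N : SBSet k A c R) :
    sub (smap φ N) = Submodule.span S (tmap A φ '' (sub N : Set (R ⊗[k] A))) :=
  map_eq_span φ (gr N)

theorem gr_smap (φ : R →ₐ[k] S) (N : SBSet k A c R) : gr (smap φ N) = Module.Grassmannian.map φ (gr N) := rfl

theorem smap_comp (φ : R →ₐ[k] S) (ψ : S →ₐ[k] T) (N : SBSet k A c R) :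
    smap (ψ.comp φ) N = smap ψ (smap φ N) :=
  Subtype.ext (Module.Grassmannian.map_comp c φ ψ (gr N))

theorem smap_id (N : SBSet k A c R) : smap (AlgHom.id k R) N = N := by
  apply SBSet.ext'
  rw [sub_smap]
  have : tmap A (AlgHom.id k R) '' (sub N : Set (R ⊗[k] A)) = sub N := by
    have h : ∀ x : R ⊗[k] A, tmap A (AlgHom.id k R) x = x := by
      intro x
      induction x using TensorProduct.induction_on with
      | zero => simp
      | tmul a b => simp
      | add x y hx hy => rw [map_add, hx, hy]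
    ext x
    simp
  rw [this, Submodule.span_eq]

theorem tmap_mem_smap (φ : R →ₐ[k] S) (N : SBSet k A c R) (x : R ⊗[k] A)
    (hx : x ∈ sub N) : tmap A φ x ∈ sub (smap φ N) :=
  tmap_mem_map φ (gr N) x hx

theorem eq_of_local {N₁ N₂ : SBSet k A c R}
    (h : ∀ (m : Ideal R) [m.IsMaximal],
      smap (IsScalarTower.toAlgHom k R (Localization.AtPrime m)) N₁ =
      smap (IsScalarTower.toAlgHom k R (Localization.AtPrime m)) N₂) : N₁ = N₂ :=
  SBSet.ext' (SBBase.eq_of_local (gr N₁) (gr N₂) fun m _ => congrArg sub (h m))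

theorem eq_of_faithfullyFlat [Algebra R S] [IsScalarTower k R S] [Module.FaithfullyFlat R S]
    {N₁ N₂ : SBSet k A c R}
    (h : smap (IsScalarTower.toAlgHom k R S) N₁ = smap (IsScalarTower.toAlgHom k R S) N₂) : N₁ = N₂ :=
  SBSet.ext' (SBBase.eq_of_faithfullyFlat (S := S) (gr N₁) (gr N₂) (congrArg sub h))

/-- Right multiplication by a unit. -/
noncomputable def rho (u : (R ⊗[k] A)ˣ) : (R ⊗[k] A) ≃ₗ[R] (R ⊗[k] A) :=
  LinearEquiv.ofLinearMap (LinearMap.mulRight R (u : R ⊗[k] A)) (LinearMap.mulRight R ((u⁻¹ : (R ⊗[k] A)ˣ) : R ⊗[k] A))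
    (by ext x; simp) (by ext x; simp)

@[simp] theorem rho_apply (u : (R ⊗[k] A)ˣ) (x : R ⊗[k] A) : rho u x = x * u := rfl

/-- The left ideal `N * u`. -/
noncomputable def rmul (u : (R ⊗[k] A)ˣ) (N : SBSet k A c R) : SBSet k A c R :=
  mk { toSubmodule := (gr N).toSubmodule.map (rho u : (R ⊗[k] A) →ₗ[R] (R ⊗[k] A))
       finite_quotient := Module.Finite.equiv (Submodule.Quotient.equiv (gr N).toSubmodule _ (rho u) rfl)
       projective_quotient := Module.Projective.of_equiv (Submodule.Quotient.equiv (gr N).toSubmodule _ (rho u) rfl)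
       rankAtStalk_eq := fun p => (congrFun (Module.rankAtStalk_eq_of_equiv
         (Submodule.Quotient.equiv (gr N).toSubmodule _ (rho u) rfl).symm) p).trans ((gr N).rankAtStalk_eq p) }
   (by
    rintro a _ ⟨x, hx, rfl⟩
    refine ⟨a * x, mul_mem N a x hx, ?_⟩
    simp [mul_assoc])

theorem sub_rmul (u : (R ⊗[k] A)ˣ) (N : SBSet k A c R) :
    sub (rmul u N) = (sub N).map (rho u : (R ⊗[k] A) →ₗ[R] (R ⊗[k] A)) := rfl

theorem mem_rmul (u : (R ⊗[k] A)ˣ) (N : SBSet k A c R) (x : R ⊗[k] A) :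
    x ∈ sub (rmul u N) ↔ x * ((u⁻¹ : (R ⊗[k] A)ˣ) : R ⊗[k] A) ∈ sub N := by
  rw [sub_rmul]
  constructor
  · rintro ⟨y, hy, rfl⟩
    simpa using hy
  · intro h
    exact ⟨_, h, by simp⟩

theorem rmul_one (N : SBSet k A c R) : rmul 1 N = N := by
  apply SBSet.ext'
  ext x
  rw [mem_rmul]
  simp

theorem rmul_rmul (u v : (R ⊗[k] A)ˣ) (N : SBSet k A c R) : rmul v (rmul u N) = rmul (u * v) N := by
  apply SBSet.ext'
  ext x
  rw [mem_rmul, mem_rmul, mem_rmul, mul_inv_rev, Units.val_mul, mul_assoc]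

/-- Right multiplication by `x` and base change. -/
theorem smap_rmul (φ : R →ₐ[k] S) (u : (R ⊗[k] A)ˣ) (N : SBSet k A c R) :
    smap φ (rmul u N) = rmul (Units.map (tmap A φ : R ⊗[k] A →* S ⊗[k] A) u) (smap φ N) := by
  apply SBSet.ext'
  rw [sub_smap, sub_rmul, sub_rmul, sub_smap, Submodule.map_span]
  congr 1
  ext y
  constructor
  · rintro ⟨_, ⟨x, hx, rfl⟩, rfl⟩
    exact ⟨_, ⟨x, hx, rfl⟩, by simp⟩
  · rintro ⟨_, ⟨x, hx, rfl⟩, rfl⟩
    exact ⟨_, ⟨x, hx, rfl⟩, by simp⟩

/-- A central unit acts trivially. -/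
theorem rmul_scalar (r : Rˣ) (u : (R ⊗[k] A)ˣ) (hu : (u : R ⊗[k] A) = algebraMap R (R ⊗[k] A) r)
    (N : SBSet k A c R) : rmul u N = N := by
  apply SBSet.ext'
  have h1 : ∀ x : R ⊗[k] A, x * (u : R ⊗[k] A) = (r : R) • x := fun x => by
    rw [hu, ← Algebra.commutes, Algebra.smul_def]
  ext x
  rw [mem_rmul]
  have h2 : x = (r : R) • (x * ((u⁻¹ : (R ⊗[k] A)ˣ) : R ⊗[k] A)) := by
    rw [← h1]; simp
  constructor
  · intro h
    rw [h2]
    exact (sub N).smul_mem (r : R) h
  · intro h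
    have h3 : x * ((u⁻¹ : (R ⊗[k] A)ˣ) : R ⊗[k] A) = ((r⁻¹ : Rˣ) : R) • x := by
      conv_rhs => rw [h2]
      rw [smul_smul, Units.inv_mul, one_smul]
    rw [h3]
    exact (sub N).smul_mem _ h

end K845.SBAct
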