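import Groth.Agent.BddFin.K845.SBSplit
import Groth.Agent.BddFin.K845.LineAut2

/-!
# Natural automorphisms of the Severi-Brauer functor come from units: over a splitting field
-/

set_option autoImplicit false
universe u

open scoped TensorProduct

namespace K845.SBAut

open K845.SBBase K845.SBAct K845.LineAut K845.SBSplit BrSev Module

variable {k : Type u} [Field k] {A : Type u} [Ring A] [Algebra k A]

/-- A natural endomorphism of the Severi-Brauer functor. -/
structure NatEnd (k : Type u) [Field k] (A : Type u) [Ring A] [Algebra k A] (c : ℕ) where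
  /-- the maps -/
  θ : ∀ (R : Type u) [CommRing R] [Algebra k R], SBSet k A c R → SBSet k A c R
  nat : ∀ (R S : Type u) [CommRing R] [Algebra k R] [CommRing S] [Algebra k S] (φ : R →ₐ[k] S) (N : SBSet k A c R),
    θ S (smap φ N) = smap φ (θ R N)

variable {K : Type u} [Field K] [Algebra k K] {n : ℕ} (φ : K ⊗[k] A ≃ₐ[K] Matrix (Fin n) (Fin n) K)

/-- The `k`-structure induced by a `K`-structure. -/
@[reducible] noncomputable def kAlg (k : Type u) [Field k] (K : Type u) [Field K] [Algebra k K] (R : Type u) [CommRing R]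
    [Algebra K R] : Algebra k R := ((algebraMap K R).comp (algebraMap k K)).toAlgebra

theorem kAlg_tower (R : Type u) [CommRing R] [Algebra K R] :
    @IsScalarTower k K R _ _ (kAlg k K R).toSMul :=
  letI := kAlg k K R
  IsScalarTower.of_algebraMap_eq fun _ => rfl

theorem alg_unique (R : Type u) [CommRing R] [Algebra K R] (ik : Algebra k R) (it : IsScalarTower k K R) :
    ik = kAlg k K R := by
  apply Algebra.algebra_ext
  intro r
  rw [IsScalarTower.algebraMap_apply k K R]
  rfl

/-- The relation on unimodular vectors attached to a natural endomorphism. -/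
def T (t : NatEnd k A (n * n - n)) (R : Type u) [CommRing R] [Algebra K R] (v w : Fin n → R) : Prop :=
  ∀ (_ : Algebra k R) (_ : IsScalarTower k K R) (_ : IsLocalRing R) (hv : Um v) (hw : Um w),
    t.θ R (ptOf φ v hv) = ptOf φ w hw

theorem T_of (t : NatEnd k A (n * n - n)) (R : Type u) [CommRing R] [Algebra K R] [IsLocalRing R] (v w : Fin n → R)
    (hv : Um v) (hw : Um w) [ik : Algebra k R] [it : IsScalarTower k K R] (h : t.θ R (ptOf φ v hv) = ptOf φ w hw) :
    T φ t R v w := by
  intro ik' it' _ _ _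
  have h1 := alg_unique R ik it
  have h2 := alg_unique R ik' it'
  subst h1
  subst h2
  exact h

theorem ptOf_smul (hn : 0 < n) (R : Type u) [CommRing R] [Algebra k R] [Algebra K R] [IsScalarTower k K R] [IsLocalRing R]
    (v : Fin n → R) (hv : Um v) (c : Rˣ) (hcv : Um ((c : R) • v)) :
    ptOf (k := k) (A := A) φ ((c : R) • v) hcv = ptOf φ v hv :=
  ((ptOf_eq_iff φ hn v _ hv hcv).mpr ⟨c, rfl⟩).symm

/-- The natural family of maps on lines. -/
noncomputable def toLineRel (hn : 0 < n) (t : NatEnd k A (n * n - n)) : LineRel K n where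
  T := fun R _ _ v w => T φ t R v w
  ex := by
    intro R _ _ _ v hv
    let ik : Algebra k R := kAlg k K R
    have it : IsScalarTower k K R := kAlg_tower R
    obtain ⟨w, hw, h⟩ := exists_ptOf φ hn (t.θ R (ptOf φ v hv))
    exact ⟨w, hw, T_of φ t R v w hv hw h⟩
  uniq := by
    intro R _ _ _ v w w' hv hw hw' h h'
    let ik : Algebra k R := kAlg k K R
    have it : IsScalarTower k K R := kAlg_tower R
    have h1 := h ik it inferInstance hv hw
    have h2 := h' ik it inferInstance hv hw'
    exact (ptOf_eq_iff φ hn w w' hw hw').mp (h1.symm.trans h2)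
  mapT := by
    intro R S _ _ _ _ _ _ ψ v w hv hw h
    let ik : Algebra k R := kAlg k K R
    have it : IsScalarTower k K R := kAlg_tower R
    let ik' : Algebra k S := kAlg k K S
    have it' : IsScalarTower k K S := kAlg_tower S
    have hv' : Um (ψ ∘ v) := hv.map (ψ : R →+* S)
    have hw' : Um (ψ ∘ w) := hw.map (ψ : R →+* S)
    have h1 := h ik it inferInstance hv hw
    refine T_of φ t S _ _ hv' hw' ?_
    rw [← smap_ptOf φ ψ v hv hv', ← smap_ptOf φ ψ w hw hw', t.nat, h1]
  smulL := by
    intro R _ _ _ v w c hv hw h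
    let ik : Algebra k R := kAlg k K R
    have it : IsScalarTower k K R := kAlg_tower R
    refine T_of φ t R _ _ (hv.smul c) hw ?_
    rw [ptOf_smul φ hn R v hv c, h ik it inferInstance hv hw]
  smulR := by
    intro R _ _ _ v w c hv hw h
    let ik : Algebra k R := kAlg k K R
    have it : IsScalarTower k K R := kAlg_tower R
    refine T_of φ t R _ _ hv (hw.smul c) ?_
    rw [ptOf_smul φ hn R w hw c, h ik it inferInstance hv hw]

/-- The matrix of a natural automorphism. -/
theorem exists_matrix_of_aut (hn : 0 < n) (t t' : NatEnd k A (n * n - n))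
    (htt : ∀ (R : Type u) [CommRing R] [Algebra k R] (N : SBSet k A (n * n - n) R), t'.θ R (t.θ R N) = N) :
    ∃ M : Matrix (Fin n) (Fin n) K, IsUnit M ∧ ∀ (R : Type u) [CommRing R] [IsLocalRing R] [Algebra K R] (v : Fin n → R),
      Um v → T φ t R v (Matrix.vecMul v (M.map (algebraMap K R))) := by
  rcases Nat.lt_or_ge 1 n with h2 | h1
  · have hLL : ∀ (R : Type u) [CommRing R] [Algebra K R] (v w : Fin n → R),
        (toLineRel φ hn t).T R v w → (toLineRel φ hn t').T R w v := by
      intro R _ _ v w h ik it il hw hv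
      have h3 : t.θ R (ptOf φ v hv) = ptOf φ w hw := h ik it il hv hw
      rw [← h3, htt]
    exact exists_linear (toLineRel φ hn t) (toLineRel φ hn t') hLL h2
  · obtain rfl : n = 1 := by omega
    refine ⟨1, isUnit_one, ?_⟩
    intro R _ _ _ v hv ik it il hv' hw
    have h1 : Matrix.vecMul v ((1 : Matrix (Fin 1) (Fin 1) K).map (algebraMap K R)) = v := by
      rw [Matrix.map_one _ (map_zero _) (map_one _), Matrix.vecMul_one]
    have h4 : ptOf (k := k) (A := A) φ v hv' = ptOf φ (Matrix.vecMul v ((1 : Matrix (Fin 1) (Fin 1) K).map (algebraMap K R))) hw := by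
      congr 1
      exact h1.symm
    rw [← h4]
    obtain ⟨w, hw1, h⟩ := exists_ptOf φ hn (t.θ R (ptOf φ v hv'))
    rw [h, ptOf_eq_iff φ hn]
    obtain ⟨i, hi⟩ := hv
    obtain ⟨j, hj⟩ := hw1
    obtain rfl : i = 0 := Subsingleton.elim _ _
    obtain rfl : j = 0 := Subsingleton.elim _ _
    refine ⟨hi.unit * hj.unit⁻¹, ?_⟩
    funext l
    obtain rfl : l = 0 := Subsingleton.elim _ _
    simp [mul_assoc]

theorem Phi_self (x : K ⊗[k] A) : Phi φ K x = φ x := by
  induction x using TensorProduct.induction_on with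
  | zero => rw [map_zero, map_zero]
  | tmul r a =>
    rw [Phi_tmul]
    have h1 : (r ⊗ₜ a : K ⊗[k] A) = r • (1 ⊗ₜ a) := by rw [TensorProduct.smul_tmul', smul_eq_mul, mul_one]
    rw [h1, map_smul]
    rfl
  | add x y hx hy => rw [map_add, map_add, hx, hy]

include φ in
/-- A natural automorphism is given by a unit over a splitting field. -/
theorem exists_unit_split (hn : 0 < n) (t t' : NatEnd k A (n * n - n))
    (htt : ∀ (R : Type u) [CommRing R] [Algebra k R] (N : SBSet k A (n * n - n) R), t'.θ R (t.θ R N) = N) :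
    ∃ g : (K ⊗[k] A)ˣ, ∀ (R : Type u) [CommRing R] [Algebra k R] (i : K →ₐ[k] R) (N : SBSet k A (n * n - n) R),
      t.θ R N = rmul (Units.map (tmap A i : K ⊗[k] A →* R ⊗[k] A) g) N := by
  obtain ⟨M, ⟨U, rfl⟩, hM⟩ := exists_matrix_of_aut φ hn t t' htt
  let g : (K ⊗[k] A)ˣ := Units.map (φ.symm : Matrix (Fin n) (Fin n) K →* K ⊗[k] A) U
  have hg : Phi φ K (g : K ⊗[k] A) = (U : Matrix (Fin n) (Fin n) K) := by
    rw [Phi_self]
    exact φ.apply_symm_apply _
  refine ⟨g, ?_⟩
  -- local case
  have hloc : ∀ (R : Type u) [CommRing R] [IsLocalRing R] [Algebra k R] (i : K →ₐ[k] R) (N : SBSet k A (n * n - n) R),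
      t.θ R N = rmul (Units.map (tmap A i : K ⊗[k] A →* R ⊗[k] A) g) N := by
    intro R _ _ ik i N
    let iK : Algebra K R := i.toAlgebra
    have it : IsScalarTower k K R := IsScalarTower.of_algebraMap_eq fun r => (i.commutes r).symm
    obtain ⟨v, hv, rfl⟩ := exists_ptOf φ hn N
    let ψ : K →ₐ[K] R := Algebra.ofId K R
    have hi : ψ.restrictScalars k = i := by ext x; rfl
    have h1 : Phi φ R ((Units.map (tmap A i : K ⊗[k] A →* R ⊗[k] A) g : (R ⊗[k] A)ˣ) : R ⊗[k] A) =
        (U : Matrix (Fin n) (Fin n) K).map (algebraMap K R) := by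
      rw [Units.coe_map, MonoidHom.coe_coe, ← hi, Phi_tmap, hg]
      rfl
    have hv' : Um (Matrix.vecMul v (Phi φ R ((Units.map (tmap A i : K ⊗[k] A →* R ⊗[k] A) g : (R ⊗[k] A)ˣ) : R ⊗[k] A))) := by
      -- otherwise `v` would be in the maximal ideal
      by_contra hnu
      obtain ⟨j, hj⟩ := hv
      set u := (Units.map (tmap A i : K ⊗[k] A →* R ⊗[k] A) g : (R ⊗[k] A)ˣ) with hu
      have h2 : v = Matrix.vecMul (Matrix.vecMul v (Phi φ R (u : R ⊗[k] A))) (Phi φ R ((u⁻¹ : (R ⊗[k] A)ˣ) : R ⊗[k] A)) := by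
        rw [Matrix.vecMul_vecMul, ← map_mul, Units.mul_inv, map_one, Matrix.vecMul_one]
      have h3 : v j ∈ IsLocalRing.maximalIdeal R := by
        rw [h2, Matrix.vecMul_eq_sum, Finset.sum_apply]
        refine Submodule.sum_mem (IsLocalRing.maximalIdeal R) fun l _ => ?_
        rw [Pi.smul_apply, smul_eq_mul]
        refine (IsLocalRing.maximalIdeal R).mul_mem_right _ ?_
        rw [IsLocalRing.mem_maximalIdeal, mem_nonunits_iff]
        exact fun hl => hnu ⟨l, hl⟩
      rw [IsLocalRing.mem_maximalIdeal] at h3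
      exact h3 hj
    rw [rmul_ptOf φ _ v hv hv']
    have h2 := hM R v hv ik it inferInstance hv (by rw [← h1]; exact hv')
    rw [h2]
    congr 1
    rw [h1]
  intro R _ _ i N
  refine K845.SBAct.eq_of_local fun m _ => ?_
  rw [← t.nat, hloc (Localization.AtPrime m) ((IsScalarTower.toAlgHom k R (Localization.AtPrime m)).comp i), smap_rmul]
  congr 1
  ext
  rw [Units.coe_map, Units.coe_map, Units.coe_map]
  exact tmap_comp _ _ _

end K845.SBAut
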