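import Groth.Prelude.Def_BrSev2
import Mathlib.RingTheory.Flat.FaithfullyFlat.Basic
import Mathlib.RingTheory.Flat.FaithfullyFlat.Algebra
import Mathlib.RingTheory.LocalProperties.Submodule
import Mathlib.Algebra.Module.LocalizedModule.Submodule

/-!
# Points of the Severi-Brauer functor: base change as a span, separation, right multiplication by units
-/

set_option autoImplicit false
universe u

open scoped TensorProduct

namespace K845.SBBase

variable {k : Type u} [Field k] {A : Type u} [Ring A] [Algebra k A]

/-- The map `R ⊗ A → S ⊗ A` induced by a `k`-algebra map `R → S`. -/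
noncomputable abbrev tmap (A : Type u) [Ring A] [Algebra k A] {R S : Type u} [CommRing R] [Algebra k R]
    [CommRing S] [Algebra k S] (φ : R →ₐ[k] S) : R ⊗[k] A →ₐ[k] S ⊗[k] A :=
  Algebra.TensorProduct.map φ (AlgHom.id k A)

variable {R S T : Type u} [CommRing R] [Algebra k R] [CommRing S] [Algebra k S] [CommRing T] [Algebra k T]

theorem tmap_smul (φ : R →ₐ[k] S) (r : R) (x : R ⊗[k] A) : tmap A φ (r • x) = φ r • tmap A φ x := by
  induction x using TensorProduct.induction_on with
  | zero => simp
  | tmul a b => simp [TensorProduct.smul_tmul']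
  | add x y hx hy => rw [smul_add, map_add, hx, hy, map_add, smul_add]

theorem tmap_comp (φ : R →ₐ[k] S) (ψ : S →ₐ[k] T) (x : R ⊗[k] A) :
    tmap A (ψ.comp φ) x = tmap A ψ (tmap A φ x) := by
  induction x using TensorProduct.induction_on with
  | zero => simp
  | tmul a b => simp
  | add x y hx hy => rw [map_add, hx, hy, map_add, map_add]

open Module.Grassmannian in
/-- The base change of a point of the Grassmannian is the span of the image. -/
theorem map_eq_span {c : ℕ} (φ : R →ₐ[k] S) (N : Module.Grassmannian R (R ⊗[k] A) c) :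
    (Module.Grassmannian.map φ N).toSubmodule = Submodule.span S (tmap A φ '' (N.toSubmodule : Set (R ⊗[k] A))) := by
  let : Algebra R S := φ.toAlgebra
  have : IsScalarTower k R S := IsScalarTower.of_algebraMap_eq' (IsScalarTower.algebraMap_eq k R S)
  rw [map_toSubmodule]
  change LinearMap.ker (baseChangeMkQ S N.toSubmodule) = _
  have key : ∀ x : R ⊗[k] A, (TensorProduct.AlgebraTensorModule.cancelBaseChange k R S S A) (1 ⊗ₜ[R] x) = tmap A φ x := by
    intro x
    induction x using TensorProduct.induction_on with
    | zero => simp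
    | tmul a b => simp [Algebra.smul_def, RingHom.algebraMap_toAlgebra]
    | add x y hx hy => rw [TensorProduct.tmul_add, map_add, hx, hy, map_add]
  apply le_antisymm
  · intro x hx
    rw [LinearMap.mem_ker] at hx
    unfold baseChangeMkQ at hx
    rw [LinearMap.comp_apply] at hx
    set y := (TensorProduct.AlgebraTensorModule.cancelBaseChange k R S S A).symm.toLinearMap x with hy
    have hy' : (N.toSubmodule.mkQ.lTensor S) y = 0 := hx
    have hex := (lTensor_exact S (f := N.toSubmodule.subtype) (g := N.toSubmodule.mkQ)
      (LinearMap.exact_subtype_mkQ _) (Submodule.mkQ_surjective _))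
    obtain ⟨z, hz⟩ := (hex y).mp hy'
    have hx' : x = (TensorProduct.AlgebraTensorModule.cancelBaseChange k R S S A) y := by
      rw [hy]; simp
    rw [hx', ← hz]
    clear hx' hz hy' hx hy y
    induction z using TensorProduct.induction_on with
    | zero => simp
    | tmul s m =>
      rw [LinearMap.lTensor_tmul]
      have : (s ⊗ₜ[R] (N.toSubmodule.subtype m) : S ⊗[R] (R ⊗[k] A)) = s • (1 ⊗ₜ[R] (m : R ⊗[k] A)) := by
        rw [TensorProduct.smul_tmul', smul_eq_mul, mul_one]; rfl
      rw [this, map_smul, key]
      exact Submodule.smul_mem _ _ (Submodule.subset_span ⟨_, m.2, rfl⟩)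
    | add a b ha hb => rw [map_add, map_add]; exact Submodule.add_mem _ ha hb
  · rw [Submodule.span_le]
    rintro _ ⟨x, hx, rfl⟩
    rw [SetLike.mem_coe, LinearMap.mem_ker]
    unfold baseChangeMkQ
    rw [LinearMap.comp_apply, ← key]
    simp only [LinearEquiv.coe_coe, LinearEquiv.symm_apply_apply]
    rw [LinearMap.baseChange_tmul]
    have : N.toSubmodule.mkQ x = 0 := by simpa using hx
    rw [this, TensorProduct.tmul_zero]

/-- Elements of `R ⊗ A` whose image lies in the base change of `N` map to zero in `S ⊗_R (quotient)`. -/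
theorem tmul_mkQ_eq_zero_of_mem_map {c : ℕ} (N : Module.Grassmannian R (R ⊗[k] A) c) [Algebra R S] [IsScalarTower k R S]
    (x : R ⊗[k] A)
    (hx : tmap A (IsScalarTower.toAlgHom k R S) x ∈ (Module.Grassmannian.map (IsScalarTower.toAlgHom k R S) N).toSubmodule) :
    (1 : S) ⊗ₜ[R] (N.toSubmodule.mkQ x) = 0 := by
  rw [map_eq_span] at hx
  have key : ∀ y : S ⊗[k] A, y ∈ Submodule.span S (tmap A (IsScalarTower.toAlgHom k R S) '' (N.toSubmodule : Set (R ⊗[k] A))) →
      (N.toSubmodule.mkQ.baseChange S) ((TensorProduct.AlgebraTensorModule.cancelBaseChange k R S S A).symm y) = 0 := by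
    intro y hy
    induction hy using Submodule.span_induction with
    | zero => simp
    | add x y _ _ hx hy => rw [map_add, map_add, hx, hy, add_zero]
    | smul s x _ hx => rw [map_smul, map_smul, hx, smul_zero]
    | mem y hy =>
      obtain ⟨x, hx, rfl⟩ := hy
      have : tmap A (IsScalarTower.toAlgHom k R S) x =
          (TensorProduct.AlgebraTensorModule.cancelBaseChange k R S S A) (1 ⊗ₜ[R] x) := by
        clear hx
        induction x using TensorProduct.induction_on with
        | zero => simp
        | tmul a b => simp [Algebra.smul_def]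
        | add x y hx hy => rw [TensorProduct.tmul_add, map_add, hx, hy, map_add]
      rw [this, LinearEquiv.symm_apply_apply, LinearMap.baseChange_tmul]
      have : N.toSubmodule.mkQ x = 0 := by simpa using hx
      rw [this, TensorProduct.tmul_zero]
  have h1 := key _ hx
  have h2 : tmap A (IsScalarTower.toAlgHom k R S) x =
      (TensorProduct.AlgebraTensorModule.cancelBaseChange k R S S A) (1 ⊗ₜ[R] x) := by
    clear hx h1
    induction x using TensorProduct.induction_on with
    | zero => simp
    | tmul a b => simp [Algebra.smul_def]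
    | add x y hx hy => rw [TensorProduct.tmul_add, map_add, hx, hy, map_add]
  rw [h2, LinearEquiv.symm_apply_apply, LinearMap.baseChange_tmul] at h1
  exact h1

theorem tmap_mem_map {c : ℕ} (φ : R →ₐ[k] S) (N : Module.Grassmannian R (R ⊗[k] A) c) (x : R ⊗[k] A)
    (hx : x ∈ N.toSubmodule) : tmap A φ x ∈ (Module.Grassmannian.map φ N).toSubmodule := by
  rw [map_eq_span]
  exact Submodule.subset_span ⟨x, hx, rfl⟩

/-- Two points that agree at all local rings agree. -/
theorem eq_of_local {c : ℕ} (N₁ N₂ : Module.Grassmannian R (R ⊗[k] A) c)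
    (h : ∀ (m : Ideal R) [m.IsMaximal],
      (Module.Grassmannian.map (IsScalarTower.toAlgHom k R (Localization.AtPrime m)) N₁).toSubmodule =
      (Module.Grassmannian.map (IsScalarTower.toAlgHom k R (Localization.AtPrime m)) N₂).toSubmodule) :
    N₁.toSubmodule = N₂.toSubmodule := by
  have key : ∀ N₁ N₂ : Module.Grassmannian R (R ⊗[k] A) c, (∀ (m : Ideal R) [m.IsMaximal],
      (Module.Grassmannian.map (IsScalarTower.toAlgHom k R (Localization.AtPrime m)) N₁).toSubmodule =
      (Module.Grassmannian.map (IsScalarTower.toAlgHom k R (Localization.AtPrime m)) N₂).toSubmodule) →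
      N₁.toSubmodule ≤ N₂.toSubmodule := by
    intro N₁ N₂ h x hx
    have h1 : N₂.toSubmodule.mkQ x = 0 := by
      refine Module.eq_zero_of_localization_maximal
        (fun (m : Ideal R) [m.IsMaximal] => Localization.AtPrime m ⊗[R] ((R ⊗[k] A) ⧸ N₂.toSubmodule))
        (fun (m : Ideal R) [m.IsMaximal] => (TensorProduct.mk R (Localization.AtPrime m) _ 1)) _ ?_
      intro m hm
      exact tmul_mkQ_eq_zero_of_mem_map N₂ x (by rw [← h m]; exact tmap_mem_map _ _ _ hx)
    simpa using h1
  exact le_antisymm (key _ _ h) (key _ _ fun m _ => (h m).symm)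

/-- Two points that agree after a faithfully flat base change agree. -/
theorem eq_of_faithfullyFlat {c : ℕ} [Algebra R S] [IsScalarTower k R S] [Module.FaithfullyFlat R S]
    (N₁ N₂ : Module.Grassmannian R (R ⊗[k] A) c)
    (h : (Module.Grassmannian.map (IsScalarTower.toAlgHom k R S) N₁).toSubmodule =
      (Module.Grassmannian.map (IsScalarTower.toAlgHom k R S) N₂).toSubmodule) :
    N₁.toSubmodule = N₂.toSubmodule := by
  have key : ∀ N₁ N₂ : Module.Grassmannian R (R ⊗[k] A) c,
      (Module.Grassmannian.map (IsScalarTower.toAlgHom k R S) N₁).toSubmodule =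
      (Module.Grassmannian.map (IsScalarTower.toAlgHom k R S) N₂).toSubmodule →
      N₁.toSubmodule ≤ N₂.toSubmodule := by
    intro N₁ N₂ h x hx
    have h1 : N₂.toSubmodule.mkQ x = 0 := by
      apply Module.FaithfullyFlat.tensorProduct_mk_injective (A := R) (B := S) ((R ⊗[k] A) ⧸ N₂.toSubmodule)
      have := tmul_mkQ_eq_zero_of_mem_map N₂ x (by rw [← h]; exact tmap_mem_map _ _ _ hx)
      simpa using this
    simpa using h1
  exact le_antisymm (key _ _ h) (key _ _ h.symm)

end K845.SBBase
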