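import Groth.Agent.BddFin.K845.SBAut
import Mathlib.RingTheory.SimpleRing.Basic
import Mathlib.LinearAlgebra.Basis.VectorSpace
import Mathlib.RingTheory.TensorProduct.Free

/-!
# Natural automorphisms of the Severi-Brauer functor come from units of `A`: descent
-/

set_option autoImplicit false
universe u

open scoped TensorProduct

namespace K845.SBDesc

open K845.SBBase K845.SBAct K845.LineAut K845.SBSplit K845.SBAut BrSev Module

variable {k : Type u} [Field k] {A : Type u} [Ring A] [Algebra k A]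
variable {K : Type u} [Field K] [Algebra k K] {n : ℕ} (φ : K ⊗[k] A ≃ₐ[K] Matrix (Fin n) (Fin n) K)

include φ in
/-- A unit acting trivially is a scalar. -/
theorem scalar_of_trivial (hn : 0 < n) (S : Type u) [CommRing S] [Algebra k S] [Algebra K S] [IsScalarTower k K S]
    (h : (S ⊗[k] A)ˣ) (hh : ∀ N : SBSet k A (n * n - n) S, rmul h N = N) :
    ∃ c : S, (h : S ⊗[k] A) = algebraMap S (S ⊗[k] A) c := by
  let ψ : K →ₐ[K] S := Algebra.ofId K S
  set H := Phi φ S (h : S ⊗[k] A) with hH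
  have key : ∀ v : Fin n → K, Um v → ∃ c : S, c • (ψ ∘ v) = Matrix.vecMul (ψ ∘ v) H := by
    intro v hv
    let N := smap (ψ.restrictScalars k) (ptOf φ v hv)
    have hN : sub N = rowSub φ (Submodule.span S {ψ ∘ v}) := sub_smap_ptOf φ ψ v hv
    let x : S ⊗[k] A := (rows φ S).symm (fun _ => ψ ∘ v)
    have hx : x ∈ sub N := by
      rw [hN, mem_rowSub]
      intro i
      simp only [x, LinearEquiv.apply_symm_apply]
      exact Submodule.mem_span_singleton_self _
    have hxh : x * (h : S ⊗[k] A) ∈ sub N := by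
      have h1 : x * (h : S ⊗[k] A) ∈ sub (rmul h N) := by
        rw [mem_rmul]
        simpa using hx
      rwa [hh N] at h1
    rw [hN, mem_rowSub] at hxh
    obtain ⟨c, hc⟩ := Submodule.mem_span_singleton.mp (hxh ⟨0, hn⟩)
    refine ⟨c, ?_⟩
    rw [hc]
    funext j
    rw [rows_apply, map_mul, Matrix.mul_apply]
    have h2 : ∀ l, Phi φ S x ⟨0, hn⟩ l = (ψ ∘ v) l := by
      intro l
      rw [← rows_apply]
      simp only [x, LinearEquiv.apply_symm_apply]
    simp only [h2]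
    rfl
  have hum : ∀ i : Fin n, Um (Pi.single i (1 : K) : Fin n → K) := fun i => ⟨i, by simp⟩
  have hψs : ∀ i : Fin n, (ψ ∘ (Pi.single i (1 : K) : Fin n → K)) = Pi.single i (1 : S) := by
    intro i
    funext j
    rw [Function.comp_apply, Pi.single_apply, Pi.single_apply]
    split_ifs
    · exact map_one ψ
    · exact map_zero ψ
  have hdiag : ∀ i j : Fin n, i ≠ j → H i j = 0 := by
    intro i j hij
    obtain ⟨c, hc⟩ := key _ (hum i)
    rw [hψs, Matrix.single_one_vecMul] at hc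
    have := congrFun hc j
    rw [Pi.smul_apply, Pi.single_eq_of_ne hij.symm, smul_zero] at this
    exact this.symm
  have hconst : ∀ i j : Fin n, H i i = H j j := by
    intro i j
    by_cases hij : i = j
    · rw [hij]
    have hum2 : Um (Pi.single i (1 : K) + Pi.single j (1 : K) : Fin n → K) := by
      refine ⟨i, ?_⟩
      rw [Pi.add_apply, Pi.single_eq_same, Pi.single_eq_of_ne hij, add_zero]
      exact isUnit_one
    obtain ⟨c, hc⟩ := key _ hum2
    have h1 : (ψ ∘ (Pi.single i (1 : K) + Pi.single j (1 : K) : Fin n → K)) = Pi.single i (1 : S) + Pi.single j (1 : S) := by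
      rw [← hψs i, ← hψs j]
      funext l
      exact map_add ψ _ _
    rw [h1, Matrix.add_vecMul, Matrix.single_one_vecMul, Matrix.single_one_vecMul] at hc
    have hi := congrFun hc i
    have hj := congrFun hc j
    rw [Pi.smul_apply, Pi.add_apply, Pi.add_apply, Pi.single_eq_same, Pi.single_eq_of_ne hij, add_zero, smul_eq_mul, mul_one] at hi
    rw [Pi.smul_apply, Pi.add_apply, Pi.add_apply, Pi.single_eq_same, Pi.single_eq_of_ne (Ne.symm hij), zero_add, smul_eq_mul, mul_one] at hj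
    have e1 : Matrix.row H i i = H i i := rfl
    have e2 : Matrix.row H j i = 0 := hdiag j i (Ne.symm hij)
    have e3 : Matrix.row H i j = 0 := hdiag i j hij
    have e4 : Matrix.row H j j = H j j := rfl
    rw [e1, e2, add_zero] at hi
    rw [e3, e4, zero_add] at hj
    rw [← hi, ← hj]
  refine ⟨H ⟨0, hn⟩ ⟨0, hn⟩, ?_⟩
  apply (Phi φ S).injective
  rw [← hH, AlgEquiv.commutes]
  ext i j
  rw [Matrix.algebraMap_matrix_apply]
  split_ifs with hij
  · subst hij
    exact hconst _ _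
  · exact hdiag i j hij

/-- An element `c` of `K` with `c ⊗ 1 = 1 ⊗ c` lies in `k`. -/
theorem mem_range_of_tmul_eq (V : Type u) [AddCommGroup V] [Module k V] (e v : V) (c : K)
    (h : (c ⊗ₜ[k] e : K ⊗[k] V) = 1 ⊗ₜ v) : ∃ r : k, v = r • e := by
  by_contra hne
  push Not at hne
  have hv : v ∉ Submodule.span k {e} := by
    intro hv
    obtain ⟨r, hr⟩ := Submodule.mem_span_singleton.mp hv
    exact hne r hr.symm
  obtain ⟨f, hf, hfe⟩ := Submodule.exists_dual_map_eq_bot_of_notMem hv inferInstance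
  have hfe' : f e = 0 := by
    have : f e ∈ (Submodule.span k {e}).map f := ⟨e, Submodule.mem_span_singleton_self e, rfl⟩
    rw [hfe] at this
    exact this
  have h1 := congrArg (TensorProduct.rid k K ∘ f.lTensor K) h
  simp only [Function.comp_apply, LinearMap.lTensor_tmul, hfe', TensorProduct.tmul_zero, map_zero,
    TensorProduct.rid_tmul] at h1
  have h2 : f v • (1 : K) = 0 := h1.symm
  rw [smul_eq_zero] at h2
  rcases h2 with h2 | h2
  · exact hf h2
  · exact one_ne_zero h2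

/-- Coordinates and base change. -/
theorem repr_tmap {ι : Type*} (b : Basis ι k A) {R : Type u} [CommRing R] [Algebra k R] (i : K →ₐ[k] R)
    (x : K ⊗[k] A) (j : ι) :
    (Algebra.TensorProduct.basis R b).repr (tmap A i x) j = i ((Algebra.TensorProduct.basis K b).repr x j) := by
  induction x using TensorProduct.induction_on with
  | zero => simp
  | tmul r a =>
    rw [Algebra.TensorProduct.map_tmul, Algebra.TensorProduct.basis_repr_tmul, Algebra.TensorProduct.basis_repr_tmul]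
    simp
  | add x y hx hy => simp only [map_add, Finsupp.add_apply, hx, hy]

/-- Descent of the unit. -/
theorem exists_of_proportional (g : (K ⊗[k] A)ˣ) [Nontrivial A]
    (c : K ⊗[k] K)
    (hc : tmap A (Algebra.TensorProduct.includeLeft : K →ₐ[k] K ⊗[k] K) (g : K ⊗[k] A) =
      c • tmap A (Algebra.TensorProduct.includeRight : K →ₐ[k] K ⊗[k] K) (g : K ⊗[k] A)) :
    ∃ (r : Kˣ) (a : A), (g : K ⊗[k] A) = (r : K) ⊗ₜ a := by
  let b := Basis.ofVectorSpace k A
  set x := (g : K ⊗[k] A) with hx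
  have h1 : ∀ j, ((Algebra.TensorProduct.basis K b).repr x j) ⊗ₜ[k] (1 : K) =
      c * ((1 : K) ⊗ₜ[k] ((Algebra.TensorProduct.basis K b).repr x j)) := by
    intro j
    have h2 := congrArg (fun y => (Algebra.TensorProduct.basis (K ⊗[k] K) b).repr y j) hc
    simp only [map_smul, Finsupp.smul_apply, repr_tmap] at h2
    exact h2
  -- a nonzero coordinate
  have hx0 : x ≠ 0 := by
    have : Nontrivial (K ⊗[k] A) := (Algebra.TensorProduct.includeRight_injective (R := k) (A := K) (B := A)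
      (FaithfulSMul.algebraMap_injective k K)).nontrivial
    exact g.ne_zero
  obtain ⟨j₀, hj₀⟩ : ∃ j, (Algebra.TensorProduct.basis K b).repr x j ≠ 0 := by
    by_contra hall
    push Not at hall
    apply hx0
    apply (Algebra.TensorProduct.basis K b).repr.injective
    ext j
    rw [hall j, map_zero]
    rfl
  set c₀ := (Algebra.TensorProduct.basis K b).repr x j₀ with hc₀
  have h3 : ∀ j, ∃ r : k, (Algebra.TensorProduct.basis K b).repr x j = r • c₀ := by
    intro j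
    set cj := (Algebra.TensorProduct.basis K b).repr x j with hcj
    -- `cj c₀⁻¹ ⊗ 1 = 1 ⊗ cj c₀⁻¹`
    have h4 : (cj * c₀⁻¹) ⊗ₜ[k] (1 : K) = (1 : K) ⊗ₜ[k] (cj * c₀⁻¹) := by
      have e1 : (cj * c₀⁻¹) ⊗ₜ[k] (1 : K) = (cj ⊗ₜ[k] (1 : K)) * (c₀⁻¹ ⊗ₜ[k] (1 : K)) := by
        rw [Algebra.TensorProduct.tmul_mul_tmul, one_mul]
      have e2 : (1 : K) ⊗ₜ[k] (cj * c₀⁻¹) = ((1 : K) ⊗ₜ[k] cj) * ((1 : K) ⊗ₜ[k] c₀⁻¹) := by
        rw [Algebra.TensorProduct.tmul_mul_tmul, one_mul]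
      have e3 : (c₀ ⊗ₜ[k] (1 : K)) * (c₀⁻¹ ⊗ₜ[k] (1 : K)) = 1 := by
        rw [Algebra.TensorProduct.tmul_mul_tmul, one_mul, mul_inv_cancel₀ hj₀]; rfl
      have e4 : ((1 : K) ⊗ₜ[k] c₀) * ((1 : K) ⊗ₜ[k] c₀⁻¹) = 1 := by
        rw [Algebra.TensorProduct.tmul_mul_tmul, one_mul, mul_inv_cancel₀ hj₀]; rfl
      rw [e1, e2, h1 j]
      have h5 := h1 j₀
      -- `(c₀ ⊗ 1) = c (1 ⊗ c₀)`
      calc c * ((1 : K) ⊗ₜ[k] cj) * (c₀⁻¹ ⊗ₜ[k] (1 : K))
          = c * ((1 : K) ⊗ₜ[k] cj) * (c₀⁻¹ ⊗ₜ[k] (1 : K)) * (((1 : K) ⊗ₜ[k] c₀) * ((1 : K) ⊗ₜ[k] c₀⁻¹)) := by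
            rw [e4, mul_one]
        _ = ((1 : K) ⊗ₜ[k] cj) * ((1 : K) ⊗ₜ[k] c₀⁻¹) * ((c * ((1 : K) ⊗ₜ[k] c₀)) * (c₀⁻¹ ⊗ₜ[k] (1 : K))) := by ring
        _ = ((1 : K) ⊗ₜ[k] cj) * ((1 : K) ⊗ₜ[k] c₀⁻¹) := by rw [← h5, e3, mul_one]
    obtain ⟨r, hr⟩ := mem_range_of_tmul_eq K (1 : K) (cj * c₀⁻¹) (cj * c₀⁻¹) h4
    refine ⟨r, ?_⟩
    have : cj = (cj * c₀⁻¹) * c₀ := by rw [mul_assoc, inv_mul_cancel₀ hj₀, mul_one]
    rw [this, hr, smul_mul_assoc, one_mul]
  choose r hr using h3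
  have hfin : ∃ a : A, ∀ j, b.repr a j = r j := by
    have hsupp : ∀ j, r j ≠ 0 → j ∈ ((Algebra.TensorProduct.basis K b).repr x).support := by
      intro j hj
      rw [Finsupp.mem_support_iff, hr j]
      exact smul_ne_zero hj hj₀
    refine ⟨b.repr.symm (Finsupp.onFinset _ r hsupp), fun j => ?_⟩
    rw [LinearEquiv.apply_symm_apply, Finsupp.onFinset_apply]
  obtain ⟨a, ha⟩ := hfin
  refine ⟨Units.mk0 c₀ hj₀, a, ?_⟩
  apply (Algebra.TensorProduct.basis K b).repr.injective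
  ext j
  rw [hr j, Algebra.TensorProduct.basis_repr_tmul]
  simp [ha j, Algebra.smul_def, mul_comm]

/-- A tensor `1 ⊗ a` is a unit only if `a` is. -/
theorem isUnit_of_tmul [FiniteDimensional k A] (r : Kˣ) (a : A) (h : IsUnit ((r : K) ⊗ₜ[k] a : K ⊗[k] A)) : IsUnit a := by
  have hinj : Function.Injective (LinearMap.mulLeft k a) := by
    rw [← LinearMap.ker_eq_bot, LinearMap.ker_eq_bot']
    intro y hy
    have h1 : ((r : K) ⊗ₜ[k] a : K ⊗[k] A) * ((1 : K) ⊗ₜ[k] y) = 0 := by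
      rw [Algebra.TensorProduct.tmul_mul_tmul]
      have : a * y = 0 := hy
      rw [this, TensorProduct.tmul_zero]
    have h2 : (1 : K) ⊗ₜ[k] y = 0 := by
      obtain ⟨w, hw⟩ := h
      rw [← hw] at h1
      exact (Units.mul_right_eq_zero w).mp h1
    have h3 : Function.Injective (Algebra.TensorProduct.includeRight : A →ₐ[k] K ⊗[k] A) :=
      Algebra.TensorProduct.includeRight_injective (FaithfulSMul.algebraMap_injective k K)
    exact h3 (by rw [map_zero]; exact h2)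
  have hsurj := (LinearMap.injective_iff_surjective (f := LinearMap.mulLeft k a)).mp hinj
  obtain ⟨y, hy⟩ := hsurj 1
  have hy1 : a * y = 1 := hy
  have hy2 : y * a = 1 := by
    apply hinj
    change a * (y * a) = a * 1
    rw [← mul_assoc, hy1, one_mul, mul_one]
  exact ⟨⟨a, y, hy1, hy2⟩, rfl⟩

/-- The unit `1 ⊗ a`. -/
noncomputable abbrev inR (R : Type u) [CommRing R] [Algebra k R] : Aˣ →* (R ⊗[k] A)ˣ :=
  Units.map (Algebra.TensorProduct.includeRight : A →ₐ[k] R ⊗[k] A)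

include φ in
/-- A natural automorphism of the Severi-Brauer functor is right multiplication by a unit of `A`. -/
theorem exists_unit [FiniteDimensional k A] [Nontrivial A] (hn : 0 < n) (t t' : NatEnd k A (n * n - n))
    (htt : ∀ (R : Type u) [CommRing R] [Algebra k R] (N : SBSet k A (n * n - n) R), t'.θ R (t.θ R N) = N) :
    ∃ a : Aˣ, ∀ (R : Type u) [CommRing R] [Algebra k R] (N : SBSet k A (n * n - n) R),
      t.θ R N = rmul (inR R a) N := by
  obtain ⟨g, hg⟩ := exists_unit_split φ hn t t' htt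
  -- compare the two embeddings
  let u₁ : ((K ⊗[k] K) ⊗[k] A)ˣ := Units.map (tmap A (Algebra.TensorProduct.includeLeft : K →ₐ[k] K ⊗[k] K) : K ⊗[k] A →* (K ⊗[k] K) ⊗[k] A) g
  let u₂ : ((K ⊗[k] K) ⊗[k] A)ˣ := Units.map (tmap A (Algebra.TensorProduct.includeRight : K →ₐ[k] K ⊗[k] K) : K ⊗[k] A →* (K ⊗[k] K) ⊗[k] A) g
  have h1 : ∀ N : SBSet k A (n * n - n) (K ⊗[k] K), rmul (u₁ * u₂⁻¹) N = N := by
    intro N
    rw [← rmul_rmul, ← hg (K ⊗[k] K) Algebra.TensorProduct.includeLeft N, hg (K ⊗[k] K) Algebra.TensorProduct.includeRight N,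
      rmul_rmul]
    change rmul (u₂ * u₂⁻¹) N = N
    rw [mul_inv_cancel, rmul_one]
  obtain ⟨c, hc⟩ := scalar_of_trivial φ hn (K ⊗[k] K) (u₁ * u₂⁻¹) h1
  have h2 : (u₁ : (K ⊗[k] K) ⊗[k] A) = c • (u₂ : (K ⊗[k] K) ⊗[k] A) := by
    have h3 : (u₁ : (K ⊗[k] K) ⊗[k] A) = ((u₁ * u₂⁻¹ : ((K ⊗[k] K) ⊗[k] A)ˣ) : (K ⊗[k] K) ⊗[k] A) * (u₂ : (K ⊗[k] K) ⊗[k] A) := by
      rw [← Units.val_mul, inv_mul_cancel_right]
    rw [h3, hc]
    exact (Algebra.smul_def c (u₂ : (K ⊗[k] K) ⊗[k] A)).symm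
  obtain ⟨r, a, hra⟩ := exists_of_proportional g c h2
  have ha : IsUnit a := isUnit_of_tmul r a (by rw [← hra]; exact g.isUnit)
  obtain ⟨a, rfl⟩ := ha
  -- over `K`-algebras
  have hK : ∀ (R : Type u) [CommRing R] [Algebra k R] (_ : K →ₐ[k] R) (N : SBSet k A (n * n - n) R),
      t.θ R N = rmul (inR R a) N := by
    intro R _ _ i N
    rw [hg R i N]
    have h4 : Units.map (tmap A i : K ⊗[k] A →* R ⊗[k] A) g =
        Units.map (algebraMap R (R ⊗[k] A) : R →* R ⊗[k] A) (Units.map (i : K →* R) r) * inR R a := by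
      ext
      rw [Units.coe_map, MonoidHom.coe_coe, hra, Algebra.TensorProduct.map_tmul, Units.val_mul, Units.coe_map, Units.coe_map,
        Units.coe_map, MonoidHom.coe_coe, MonoidHom.coe_coe, MonoidHom.coe_coe, Algebra.TensorProduct.algebraMap_apply,
        Algebra.TensorProduct.includeRight_apply, Algebra.TensorProduct.tmul_mul_tmul, one_mul, mul_one]
      rfl
    rw [h4, ← rmul_rmul, rmul_scalar (Units.map (i : K →* R) r)
      (Units.map (algebraMap R (R ⊗[k] A) : R →* R ⊗[k] A) (Units.map (i : K →* R) r)) rfl N]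
  refine ⟨a, fun R _ _ N => ?_⟩
  have hff : Module.FaithfullyFlat R (R ⊗[k] K) := inferInstance
  refine K845.SBAct.eq_of_faithfullyFlat (S := R ⊗[k] K) ?_
  rw [← t.nat, hK (R ⊗[k] K) Algebra.TensorProduct.includeRight, smap_rmul]
  congr 1

include φ in
/-- A unit of `A` acting trivially is in `k`. -/
theorem mem_range_of_trivial [FiniteDimensional k A] [Nontrivial A] (hn : 0 < n) (a : Aˣ)
    (h : ∀ (R : Type u) [CommRing R] [Algebra k R] (N : SBSet k A (n * n - n) R), rmul (inR R a) N = N) :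
    a ∈ (Units.map (algebraMap k A : k →* A)).range := by
  obtain ⟨c, hc⟩ := scalar_of_trivial φ hn K (inR K a) (h K)
  have h1 : (c ⊗ₜ[k] (1 : A) : K ⊗[k] A) = 1 ⊗ₜ (a : A) := by
    have : ((inR K a : (K ⊗[k] A)ˣ) : K ⊗[k] A) = 1 ⊗ₜ (a : A) := rfl
    rw [← this, hc]
    rfl
  obtain ⟨r, hr⟩ := mem_range_of_tmul_eq A (1 : A) (a : A) c h1
  have hr0 : r ≠ 0 := by
    rintro rfl
    rw [zero_smul] at hr
    exact a.ne_zero hr
  refine ⟨Units.mk0 r hr0, ?_⟩
  ext
  rw [Units.coe_map, MonoidHom.coe_coe, Units.val_mk0, hr, Algebra.algebraMap_eq_smul_one]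

end K845.SBDesc
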