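import Groth.Agent.BddFin.K845.SBDesc
import Groth.Agent.BddFin.K845.PtsGlue
import Groth.Agent.CurvesA.CSABasic
import Mathlib.RingTheory.SimpleModule.IsAlgClosed
import Mathlib.FieldTheory.IsAlgClosed.AlgebraicClosure
import Mathlib.CategoryTheory.Endomorphism

/-!
# The automorphism group of the Severi-Brauer variety
-/

set_option autoImplicit false
universe u

open CategoryTheory AlgebraicGeometry
open scoped TensorProduct

namespace K845.SBIso

open K845.SBBase K845.SBAct K845.SBSplit K845.SBAut K845.SBDesc K845.PtsGlue BrSev Module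

/-- Splitting over the algebraic closure with the size of the matrices given by the dimension. -/
theorem exists_splitting (k : Type u) [Field k] (A : Type u) [Ring A] [Algebra k A] [Algebra.IsCentral k A] [IsSimpleRing A]
    [FiniteDimensional k A] (n : ℕ) (hA : Module.finrank k A = n * n) :
    Nonempty (AlgebraicClosure k ⊗[k] A ≃ₐ[AlgebraicClosure k] Matrix (Fin n) (Fin n) (AlgebraicClosure k)) := by
  have h1 : IsSimpleRing (AlgebraicClosure k ⊗[k] A) :=
    Groth.Agent.CurvesA.CSABasic.isSimpleRing_tensorProduct k (AlgebraicClosure k) A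
  obtain ⟨m, hm, ⟨e⟩⟩ := IsSimpleRing.exists_algEquiv_matrix_of_isAlgClosed (AlgebraicClosure k) (AlgebraicClosure k ⊗[k] A)
  have h2 : n * n = m * m := by
    have h3 := e.toLinearEquiv.finrank_eq
    rw [Module.finrank_baseChange, hA, Module.finrank_matrix, Fintype.card_fin, Module.finrank_self, mul_one] at h3
    exact h3
  have h4 : n = m := Nat.mul_self_inj.mp h2
  subst h4
  exact ⟨e⟩

variable {k : Type u} [Field k] {A : Type u} [Ring A] [Algebra k A] {c : ℕ}
  {X : Scheme.{u}} {f : X ⟶ Spec (CommRingCat.of k)}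

/-- The bijection of a Severi-Brauer structure, in terms of `smap`. -/
theorem bij_map (s : SBStr k A c f) (R S : Type u) [CommRing R] [Algebra k R] [CommRing S] [Algebra k S]
    (φ : R →ₐ[k] S) (x : Pts f R) : s.bij S (Pts.map f φ x) = smap φ (s.bij R x) :=
  SBSet.ext' (s.natural R S φ x)

/-- The morphism attached to a natural endomorphism. -/
theorem exists_hom_of_nat (s : SBStr k A c f) (t : NatEnd k A c) :
    ∃ h : X ⟶ X, h ≫ f = f ∧ ∀ (R : Type u) [CommRing R] [Algebra k R] (x : Pts f R),
      pt f ((s.bij R).symm (t.θ R (s.bij R x))) = pt f x ≫ h := by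
  refine exists_hom f f (fun R _ _ x => (s.bij R).symm (t.θ R (s.bij R x))) ?_
  intro R S _ _ _ _ φ x
  apply (s.bij S).injective
  rw [Equiv.apply_symm_apply, bij_map, bij_map, Equiv.apply_symm_apply, t.nat]

/-- The natural endomorphism given by a unit of `A`. -/
noncomputable def unitEnd (a : Aˣ) : NatEnd k A c where
  θ := fun R _ _ N => rmul (inR R a) N
  nat := by
    intro R S _ _ _ _ φ N
    rw [smap_rmul]
    congr 1
    ext
    simp

/-- The morphism attached to a unit. -/
noncomputable def unitHom (s : SBStr k A c f) (a : Aˣ) : X ⟶ X := (exists_hom_of_nat s (unitEnd a)).choose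

theorem unitHom_comp (s : SBStr k A c f) (a : Aˣ) : unitHom s a ≫ f = f := (exists_hom_of_nat s (unitEnd a)).choose_spec.1

theorem unitHom_pt (s : SBStr k A c f) (a : Aˣ) (R : Type u) [CommRing R] [Algebra k R] (x : Pts f R) :
    pt f x ≫ unitHom s a = pt f ((s.bij R).symm (rmul (inR R a) (s.bij R x))) :=
  ((exists_hom_of_nat s (unitEnd a)).choose_spec.2 R x).symm

theorem unitHom_one (s : SBStr k A c f) : unitHom s 1 = 𝟙 X := by
  refine hom_ext_pts f _ _ fun R _ _ x => ?_
  rw [unitHom_pt, Category.comp_id, map_one, rmul_one, Equiv.symm_apply_apply]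

theorem unitHom_mul (s : SBStr k A c f) (a b : Aˣ) : unitHom s (a * b) = unitHom s a ≫ unitHom s b := by
  refine hom_ext_pts f _ _ fun R _ _ x => ?_
  rw [← Category.assoc, unitHom_pt, unitHom_pt, unitHom_pt, Equiv.apply_symm_apply, rmul_rmul, map_mul]

/-- The automorphism attached to a unit. -/
noncomputable def unitIso (s : SBStr k A c f) (a : Aˣ) : Over.mk f ≅ Over.mk f where
  hom := Over.homMk (unitHom s a) (unitHom_comp s a)
  inv := Over.homMk (unitHom s a⁻¹) (unitHom_comp s a⁻¹)
  hom_inv_id := by
    ext1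
    change unitHom s a ≫ unitHom s a⁻¹ = 𝟙 X
    rw [← unitHom_mul, mul_inv_cancel, unitHom_one]
  inv_hom_id := by
    ext1
    change unitHom s a⁻¹ ≫ unitHom s a = 𝟙 X
    rw [← unitHom_mul, inv_mul_cancel, unitHom_one]

/-- The homomorphism from units to automorphisms. -/
noncomputable def xi (s : SBStr k A c f) : Aˣ →* Aut (Over.mk f) where
  toFun a := unitIso s a⁻¹
  map_one' := by
    ext
    change unitHom s 1⁻¹ = 𝟙 X
    rw [inv_one, unitHom_one]
  map_mul' a b := by
    ext1
    ext1
    change unitHom s (a * b)⁻¹ = unitHom s b⁻¹ ≫ unitHom s a⁻¹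
    rw [mul_inv_rev, unitHom_mul]

theorem xi_left (s : SBStr k A c f) (a : Aˣ) : (xi s a).hom.left = unitHom s a⁻¹ := rfl

/-- Main theorem. -/
theorem main (k : Type u) [Field k] (A : Type u) [Ring A] [Algebra k A] [Algebra.IsCentral k A] [IsSimpleRing A]
    (n : ℕ) (hn : 0 < n) (hA : Module.finrank k A = n * n)
    {X : Scheme.{u}} (f : X ⟶ Spec (CommRingCat.of k)) (s : SBStr k A (n * n - n) f) :
    Function.Surjective (xi s) ∧ (xi s).ker = (Units.map (algebraMap k A : k →* A)).range := by
  have hfin : FiniteDimensional k A := FiniteDimensional.of_finrank_pos (by rw [hA]; exact Nat.mul_pos hn hn)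
  obtain ⟨φ⟩ := exists_splitting k A n hA
  constructor
  · intro g
    -- the natural families of `g` and `g⁻¹`
    let act : (h : X ⟶ X) → h ≫ f = f → NatEnd k A (n * n - n) := fun h hh =>
      { θ := fun R _ _ N => s.bij R (mkPt f (pt f ((s.bij R).symm N) ≫ h) (by rw [Category.assoc, hh, pt_comp]))
        nat := by
          intro R S _ _ _ _ φ N
          rw [← bij_map]
          congr 1
          apply pt_injective
          rw [pt_mkPt, pt_map, pt_mkPt, ← Category.assoc, ← pt_map]
          congr 2
          apply (s.bij S).injective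
          rw [Equiv.apply_symm_apply, bij_map, Equiv.apply_symm_apply] }
    have hact : ∀ (h : X ⟶ X) (hh : h ≫ f = f) (R : Type u) [CommRing R] [Algebra k R] (N : SBSet k A (n * n - n) R),
        (act h hh).θ R N = s.bij R (mkPt f (pt f ((s.bij R).symm N) ≫ h) (by rw [Category.assoc, hh, pt_comp])) :=
      fun _ _ _ _ _ _ => rfl
    have hg1 : g.hom.left ≫ f = f := Over.w g.hom
    have hg2 : g.inv.left ≫ f = f := Over.w g.inv
    obtain ⟨a, ha⟩ := exists_unit φ hn (act g.hom.left hg1) (act g.inv.left hg2) (by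
      intro R _ _ N
      rw [hact _ hg1, hact _ hg2]
      apply (s.bij R).symm.injective
      rw [Equiv.symm_apply_apply]
      apply pt_injective
      rw [pt_mkPt, Equiv.symm_apply_apply, pt_mkPt, Category.assoc]
      have : g.hom.left ≫ g.inv.left = 𝟙 X := by
        rw [← Over.comp_left, g.hom_inv_id]; rfl
      rw [this, Category.comp_id])
    refine ⟨a⁻¹, ?_⟩
    ext1
    ext1
    rw [xi_left, inv_inv]
    refine hom_ext_pts f _ _ fun R _ _ x => ?_
    rw [unitHom_pt, ← ha R (s.bij R x), hact _ hg1, Equiv.symm_apply_apply, pt_mkPt, Equiv.symm_apply_apply]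
  · ext a
    rw [MonoidHom.mem_ker]
    constructor
    · intro h
      have h1 : unitHom s a⁻¹ = 𝟙 X := by
        rw [← xi_left, h]; rfl
      have h2 : a⁻¹ ∈ (Units.map (algebraMap k A : k →* A)).range := by
        refine mem_range_of_trivial φ hn a⁻¹ fun R _ _ N => ?_
        have h3 := unitHom_pt s a⁻¹ R ((s.bij R).symm N)
        rw [h1, Category.comp_id, Equiv.apply_symm_apply] at h3
        have h4 := pt_injective f h3
        exact ((s.bij R).symm.injective h4).symm
      rw [← inv_inv a]
      exact inv_mem h2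
    · rintro ⟨r, rfl⟩
      ext1
      ext1
      rw [xi_left]
      change _ = 𝟙 X
      refine hom_ext_pts f _ _ fun R _ _ x => ?_
      rw [unitHom_pt, Category.comp_id]
      have h5 : rmul (inR R ((Units.map (algebraMap k A : k →* A)) r)⁻¹) (s.bij R x) = s.bij R x := by
        refine rmul_scalar (Units.map (algebraMap k R : k →* R) r⁻¹) _ ?_ _
        rw [← map_inv]
        change (1 : R) ⊗ₜ[k] (algebraMap k A ((r⁻¹ : kˣ) : k)) = (algebraMap k R ((r⁻¹ : kˣ) : k)) ⊗ₜ[k] (1 : A)
        rw [Algebra.algebraMap_eq_smul_one, Algebra.algebraMap_eq_smul_one, TensorProduct.tmul_smul, TensorProduct.smul_tmul']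
      rw [h5, Equiv.symm_apply_apply]

end K845.SBIso
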