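import Groth.Agent.BddFin.K845.SBAct
import Groth.Agent.BddFin.K845.LocLine
import Mathlib.RingTheory.MatrixAlgebra

/-!
# Points of the Severi-Brauer functor over local algebras over a splitting field
-/

set_option autoImplicit false
universe u

open scoped TensorProduct

namespace K845.SBSplit

open K845.SBBase K845.SBAct K845.LineAut BrSev Module

variable {k : Type u} [Field k] {A : Type u} [Ring A] [Algebra k A]
variable {K : Type u} [Field K] [Algebra k K] {n : ℕ} (φ : K ⊗[k] A ≃ₐ[K] Matrix (Fin n) (Fin n) K)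

/-- `R ⊗ M_n(K) = M_n(R)` as `R`-algebras. -/
noncomputable def matIso (K : Type u) [Field K] (n : ℕ) (R : Type u) [CommRing R] [Algebra K R] :
    R ⊗[K] Matrix (Fin n) (Fin n) K ≃ₐ[R] Matrix (Fin n) (Fin n) R :=
  { (matrixEquivTensor (Fin n) K R).symm with
    commutes' := by
      intro r
      change (matrixEquivTensor (Fin n) K R).symm (algebraMap R (R ⊗[K] Matrix (Fin n) (Fin n) K) r) = _
      rw [Algebra.TensorProduct.algebraMap_apply, matrixEquivTensor_apply_symm, Algebra.algebraMap_self,
        RingHom.id_apply]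
      rw [Matrix.map_one _ (map_zero _) (map_one _), Algebra.algebraMap_eq_smul_one] }

theorem matIso_tmul (R : Type u) [CommRing R] [Algebra K R] (r : R) (M : Matrix (Fin n) (Fin n) K) :
    matIso K n R (r ⊗ₜ M) = r • M.map (algebraMap K R) := rfl

section

variable (R : Type u) [CommRing R] [Algebra k R] [Algebra K R] [IsScalarTower k K R]

/-- The algebra map `A → M_n(R)`. -/
noncomputable def toMat : A →ₐ[k] Matrix (Fin n) (Fin n) R :=
  ((Algebra.ofId K R).mapMatrix.restrictScalars k).comp
    ((φ.toAlgHom.restrictScalars k).comp (Algebra.TensorProduct.includeRight : A →ₐ[k] K ⊗[k] A))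

theorem toMat_apply (a : A) : toMat φ R a = (φ (1 ⊗ₜ a)).map (algebraMap K R) := rfl

theorem commute_toMat (r : R) (a : A) : Commute (Algebra.ofId R (Matrix (Fin n) (Fin n) R) r) (toMat φ R a) :=
  Algebra.commutes r _

/-- The splitting map `R ⊗ A → M_n(R)`. -/
noncomputable def PhiHom : R ⊗[k] A →ₐ[R] Matrix (Fin n) (Fin n) R :=
  Algebra.TensorProduct.lift (Algebra.ofId R _) (toMat φ R) (commute_toMat φ R)

theorem PhiHom_tmul (r : R) (a : A) : PhiHom φ R (r ⊗ₜ a) = r • (φ (1 ⊗ₜ a)).map (algebraMap K R) := by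
  rw [PhiHom, Algebra.TensorProduct.lift_tmul, toMat_apply, Algebra.smul_def]
  rfl

theorem PhiHom_bijective : Function.Bijective (PhiHom φ R) := by
  let e : R ⊗[k] A ≃ₗ[R] Matrix (Fin n) (Fin n) R :=
    ((TensorProduct.AlgebraTensorModule.cancelBaseChange k K R R A).symm.trans
      (TensorProduct.AlgebraTensorModule.congr (LinearEquiv.refl R R) φ.toLinearEquiv)).trans (matIso K n R).toLinearEquiv
  have h : ∀ x, PhiHom φ R x = e x := by
    intro x
    induction x using TensorProduct.induction_on with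
    | zero => rw [map_zero, map_zero]
    | tmul r a =>
      rw [PhiHom_tmul]
      simp only [e, LinearEquiv.trans_apply, TensorProduct.AlgebraTensorModule.cancelBaseChange_symm_tmul,
        TensorProduct.AlgebraTensorModule.congr_tmul]
      exact (matIso_tmul R r _).symm
    | add x y hx hy => rw [map_add, map_add, hx, hy]
  have h2 : (PhiHom φ R : R ⊗[k] A → Matrix (Fin n) (Fin n) R) = e := funext h
  rw [h2]
  exact e.bijective

/-- The splitting `R ⊗ A = M_n(R)`. -/
noncomputable def Phi : R ⊗[k] A ≃ₐ[R] Matrix (Fin n) (Fin n) R :=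
  AlgEquiv.ofBijective (PhiHom φ R) (PhiHom_bijective φ R)

theorem Phi_tmul (r : R) (a : A) : Phi φ R (r ⊗ₜ a) = r • (φ (1 ⊗ₜ a)).map (algebraMap K R) :=
  PhiHom_tmul φ R r a

variable {R}
variable {S : Type u} [CommRing S] [Algebra k S] [Algebra K S] [IsScalarTower k K S]

/-- Naturality of the splitting. -/
theorem Phi_tmap (ψ : R →ₐ[K] S) (x : R ⊗[k] A) :
    Phi φ S (tmap A (ψ.restrictScalars k) x) = (Phi φ R x).map ψ := by
  induction x using TensorProduct.induction_on with
  | zero => rw [map_zero, map_zero, map_zero, Matrix.map_zero _ (map_zero _)]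
  | tmul r a =>
    rw [Algebra.TensorProduct.map_tmul, Phi_tmul, Phi_tmul]
    ext i j
    simp
  | add x y hx hy => rw [map_add, map_add, map_add, hx, hy, Matrix.map_add _ (map_add _)]

variable (R)

/-- Rows of an element of `R ⊗ A`. -/
noncomputable def rows : (R ⊗[k] A) ≃ₗ[R] (Fin n → Fin n → R) :=
  (Phi φ R).toLinearEquiv.trans (Matrix.ofLinearEquiv R).symm

theorem rows_apply (x : R ⊗[k] A) (i j : Fin n) : rows φ R x i j = Phi φ R x i j := rfl

variable {R}

/-- The submodule of elements all whose rows lie in `L`. -/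
noncomputable def rowSub (L : Submodule R (Fin n → R)) : Submodule R (R ⊗[k] A) :=
  (Submodule.pi Set.univ (fun _ : Fin n => L)).comap (rows φ R : (R ⊗[k] A) →ₗ[R] (Fin n → Fin n → R))

theorem mem_rowSub (L : Submodule R (Fin n → R)) (x : R ⊗[k] A) :
    x ∈ rowSub φ L ↔ ∀ i, rows φ R x i ∈ L := by
  rw [rowSub, Submodule.mem_comap, Submodule.mem_pi]
  simp

theorem rows_mul (a x : R ⊗[k] A) (i : Fin n) : rows φ R (a * x) i = ∑ j, Phi φ R a i j • rows φ R x j := by
  funext l
  rw [rows_apply, map_mul, Matrix.mul_apply, Finset.sum_apply]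
  rfl

theorem mul_mem_rowSub (L : Submodule R (Fin n → R)) (a x : R ⊗[k] A) (hx : x ∈ rowSub φ L) :
    a * x ∈ rowSub φ L := by
  rw [mem_rowSub] at hx ⊢
  intro i
  rw [rows_mul]
  exact Submodule.sum_mem _ fun j _ => Submodule.smul_mem _ _ (hx j)

/-- The quotient by `rowSub L`. -/
noncomputable def quotRow (L : Submodule R (Fin n → R)) :
    ((R ⊗[k] A) ⧸ rowSub φ L) ≃ₗ[R] (Fin n → ((Fin n → R) ⧸ L)) :=
  (Submodule.Quotient.equiv (rowSub φ L) (Submodule.pi Set.univ (fun _ : Fin n => L)) (rows φ R) (by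
    rw [rowSub, Submodule.map_comap_eq_of_surjective]
    exact (rows φ R).surjective)).trans (Submodule.quotientPi fun _ : Fin n => L)

/-- A left ideal is determined by its rows. -/
theorem eq_rowSub (hn : 0 < n) (N : Submodule R (R ⊗[k] A)) (hN : ∀ a x : R ⊗[k] A, x ∈ N → a * x ∈ N) :
    N = rowSub φ (N.comap ((rows φ R).symm.toLinearMap ∘ₗ LinearMap.single R (fun _ : Fin n => Fin n → R) ⟨0, hn⟩)) := by
  set i0 : Fin n := ⟨0, hn⟩ with hi0
  -- matrix units
  let E : Fin n → Fin n → R ⊗[k] A := fun i j => (Phi φ R).symm (Matrix.single i j 1)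
  have hE : ∀ i j x l, rows φ R (E i j * x) l = if l = i then rows φ R x j else 0 := by
    intro i j x l
    rw [rows_mul]
    simp only [E, AlgEquiv.apply_symm_apply, Matrix.single_apply]
    by_cases h : l = i
    · subst h
      rw [if_pos rfl, Finset.sum_eq_single j]
      · simp
      · intro b _ hb
        simp [hb.symm]
      · simp
    · rw [if_neg h]
      refine Finset.sum_eq_zero fun b _ => ?_
      rw [if_neg (by rintro ⟨rfl, -⟩; exact h rfl), zero_smul]
  ext x
  rw [mem_rowSub]
  constructor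
  · intro hx i
    rw [Submodule.mem_comap]
    have h1 : ((rows φ R).symm.toLinearMap ∘ₗ LinearMap.single R (fun _ : Fin n => Fin n → R) i0) (rows φ R x i) = E i0 i * x := by
      apply (rows φ R).injective
      rw [LinearMap.comp_apply, LinearEquiv.coe_coe, LinearEquiv.apply_symm_apply]
      funext l
      rw [hE, LinearMap.single_apply, Pi.single_apply]
    rw [h1]
    exact hN _ _ hx
  · intro hx
    have h2 : x = ∑ i, E i i0 * ((rows φ R).symm.toLinearMap ∘ₗ LinearMap.single R (fun _ : Fin n => Fin n → R) i0) (rows φ R x i) := by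
      apply (rows φ R).injective
      rw [map_sum]
      funext l
      rw [Finset.sum_apply, Finset.sum_eq_single l]
      · rw [hE, if_pos rfl, LinearMap.comp_apply, LinearEquiv.coe_coe, LinearEquiv.apply_symm_apply,
          LinearMap.single_apply, Pi.single_eq_same]
      · intro b _ hb
        rw [hE, if_neg hb.symm]
      · simp
    rw [h2]
    exact Submodule.sum_mem _ fun i _ => hN _ _ (hx i)

variable [IsLocalRing R]

/-- The point of the Severi-Brauer functor given by a unimodular vector. -/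
noncomputable def ptOf (v : Fin n → R) (hv : Um v) : SBSet k A (n * n - n) R :=
  haveI := LocLine.projective_quotient v hv
  haveI := LocLine.projective_pi (R := R) (n := n) ((Fin n → R) ⧸ (Submodule.span R {v}))
  SBAct.mk
    { toSubmodule := rowSub φ (Submodule.span R {v})
      finite_quotient := Module.Finite.equiv (quotRow φ (Submodule.span R {v})).symm
      projective_quotient := Module.Projective.of_equiv (quotRow φ (Submodule.span R {v})).symm
      rankAtStalk_eq := fun p => by
        have h1 := congrFun (rankAtStalk_eq_of_equiv (quotRow φ (Submodule.span R {v}))) p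
        rw [h1, LocLine.rank_pi, LocLine.rank_quotient v hv p, Nat.mul_sub_one]
        }
    (fun a x hx => mul_mem_rowSub φ _ a x hx)

theorem sub_ptOf (v : Fin n → R) (hv : Um v) : sub (ptOf (k := k) (A := A) φ v hv) = rowSub φ (Submodule.span R {v}) := rfl

/-- Every point over a local algebra comes from a unimodular vector. -/
theorem exists_ptOf (hn : 0 < n) (N : SBSet k A (n * n - n) R) : ∃ (v : Fin n → R) (hv : Um v), N = ptOf φ v hv := by
  have h1 := eq_rowSub φ hn (sub N) (mul_mem N)
  set L := (sub N).comap ((rows φ R).symm.toLinearMap ∘ₗ LinearMap.single R (fun _ : Fin n => Fin n → R) ⟨0, hn⟩) with hL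
  have e : ((R ⊗[k] A) ⧸ sub N) ≃ₗ[R] (Fin n → ((Fin n → R) ⧸ L)) :=
    (Submodule.quotEquivOfEq _ _ h1).trans (quotRow φ L)
  have hproj : Module.Projective R ((R ⊗[k] A) ⧸ sub N) := (gr N).projective_quotient
  have hfin : Module.Finite R ((R ⊗[k] A) ⧸ sub N) := (gr N).finite_quotient
  have hproj2 : Module.Projective R (Fin n → ((Fin n → R) ⧸ L)) := Module.Projective.of_equiv e
  have hproj3 : Module.Projective R ((Fin n → R) ⧸ L) := by
    refine Module.Projective.of_split (LinearMap.single R (fun _ : Fin n => (Fin n → R) ⧸ L) ⟨0, hn⟩)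
      (LinearMap.proj ⟨0, hn⟩) ?_
    ext x
    simp
  have hrk : ∀ p : PrimeSpectrum R, rankAtStalk ((Fin n → R) ⧸ L) p = n - 1 := by
    intro p
    have h2 : rankAtStalk ((R ⊗[k] A) ⧸ sub N) p = n * n - n := (gr N).rankAtStalk_eq p
    have h3 := congrFun (rankAtStalk_eq_of_equiv e) p
    rw [h2, LocLine.rank_pi, ← Nat.mul_sub_one] at h3
    exact (Nat.eq_of_mul_eq_mul_left hn h3).symm
  obtain ⟨v, hv, hLv⟩ := LocLine.exists_um hn L hrk
  refine ⟨v, hv, SBSet.ext' ?_⟩
  rw [sub_ptOf, ← hLv]
  exact h1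

omit [IsLocalRing R] in
theorem rows_symm_mem (L : Submodule R (Fin n → R)) (w : Fin n → Fin n → R) :
    (rows φ R).symm w ∈ rowSub (k := k) (A := A) φ L ↔ ∀ i, w i ∈ L := by
  rw [mem_rowSub]
  simp

/-- Two unimodular vectors give the same point iff they differ by a unit. -/
theorem ptOf_eq_iff (hn : 0 < n) (v w : Fin n → R) (hv : Um v) (hw : Um w) :
    ptOf (k := k) (A := A) φ v hv = ptOf φ w hw ↔ ∃ c : Rˣ, w = (c : R) • v := by
  constructor
  · intro h
    have h1 : rowSub (k := k) (A := A) φ (Submodule.span R {v}) = rowSub φ (Submodule.span R {w}) := congrArg sub h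
    have h2 : ∀ x : Fin n → R, x ∈ Submodule.span R {v} ↔ x ∈ Submodule.span R {w} := by
      intro x
      have h3 := rows_symm_mem (k := k) (A := A) φ (Submodule.span R {v}) (fun _ => x)
      have h4 := rows_symm_mem (k := k) (A := A) φ (Submodule.span R {w}) (fun _ => x)
      rw [h1] at h3
      have h5 := h3.symm.trans h4
      exact ⟨fun hx => h5.mp (fun _ => hx) ⟨0, hn⟩, fun hx => h5.mpr (fun _ => hx) ⟨0, hn⟩⟩
    obtain ⟨c, hc⟩ := Submodule.mem_span_singleton.mp ((h2 w).mpr (Submodule.mem_span_singleton_self w))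
    obtain ⟨i, hi⟩ := hw
    have hci : IsUnit c := by
      rw [← hc, Pi.smul_apply, smul_eq_mul] at hi
      exact isUnit_of_mul_isUnit_left hi
    obtain ⟨c', rfl⟩ := hci
    exact ⟨c', hc.symm⟩
  · rintro ⟨c, rfl⟩
    apply SBSet.ext'
    rw [sub_ptOf, sub_ptOf]
    congr 1
    rw [← Units.smul_def, Submodule.span_singleton_group_smul_eq]

/-- Base change of points: the left ideal. -/
theorem sub_smap_ptOf (ψ : R →ₐ[K] S) (v : Fin n → R) (hv : Um v) :
    sub (smap (ψ.restrictScalars k) (ptOf φ v hv)) = rowSub φ (Submodule.span S {ψ ∘ v}) := by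
  rw [sub_smap, sub_ptOf]
  apply le_antisymm
  · rw [Submodule.span_le]
    rintro _ ⟨x, hx, rfl⟩
    rw [SetLike.mem_coe, mem_rowSub] at hx ⊢
    intro i
    obtain ⟨c, hc⟩ := Submodule.mem_span_singleton.mp (hx i)
    rw [Submodule.mem_span_singleton]
    refine ⟨ψ c, ?_⟩
    funext j
    rw [rows_apply, Phi_tmap, Matrix.map_apply, ← rows_apply, ← hc]
    simp
  · intro y hy
    rw [mem_rowSub] at hy
    have h1 : ∀ i, ∃ c : S, rows φ S y i = c • (ψ ∘ v) := fun i =>
      (Submodule.mem_span_singleton.mp (hy i)).imp fun _ h => h.symm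
    choose c hc using h1
    have h2 : y = ∑ i, c i • tmap A (ψ.restrictScalars k) ((rows φ R).symm (Pi.single i v)) := by
      apply (rows φ S).injective
      rw [map_sum]
      funext l j
      rw [Finset.sum_apply, Finset.sum_apply, hc l, Finset.sum_eq_single l]
      · rw [map_smul, Pi.smul_apply, Pi.smul_apply, Pi.smul_apply, rows_apply, Phi_tmap, Matrix.map_apply, ← rows_apply,
          LinearEquiv.apply_symm_apply, Pi.single_eq_same]
        rfl
      · intro b _ hb
        rw [map_smul, Pi.smul_apply, Pi.smul_apply, rows_apply, Phi_tmap, Matrix.map_apply, ← rows_apply,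
          LinearEquiv.apply_symm_apply, Pi.single_eq_of_ne hb.symm]
        simp
      · simp
    rw [h2]
    refine Submodule.sum_mem _ fun i _ => Submodule.smul_mem _ _ (Submodule.subset_span ⟨_, ?_, rfl⟩)
    rw [SetLike.mem_coe, rows_symm_mem]
    intro l
    by_cases h : l = i
    · subst h
      rw [Pi.single_eq_same]
      exact Submodule.mem_span_singleton_self v
    · rw [Pi.single_eq_of_ne h]
      exact zero_mem _

/-- Base change of points. -/
theorem smap_ptOf [IsLocalRing S] (ψ : R →ₐ[K] S) (v : Fin n → R) (hv : Um v) (hv' : Um (ψ ∘ v)) :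
    smap (ψ.restrictScalars k) (ptOf φ v hv) = ptOf φ (ψ ∘ v) hv' := by
  apply SBSet.ext'
  rw [sub_smap_ptOf, sub_ptOf]

/-- Right multiplication by a unit on points. -/
theorem rmul_ptOf (u : (R ⊗[k] A)ˣ) (v : Fin n → R) (hv : Um v) (hv' : Um (Matrix.vecMul v (Phi φ R u))) :
    rmul u (ptOf φ v hv) = ptOf φ (Matrix.vecMul v (Phi φ R u)) hv' := by
  apply SBSet.ext'
  have hrow : ∀ (x : R ⊗[k] A) (y : R ⊗[k] A) (i : Fin n), rows φ R (x * y) i = Matrix.vecMul (rows φ R x i) (Phi φ R y) := by
    intro x y i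
    funext j
    rw [rows_apply, map_mul, Matrix.mul_apply]
    rfl
  ext x
  rw [mem_rmul, sub_ptOf, sub_ptOf, mem_rowSub, mem_rowSub]
  refine forall_congr' fun i => ?_
  rw [hrow, Submodule.mem_span_singleton, Submodule.mem_span_singleton]
  have hinv : Phi φ R ((u⁻¹ : (R ⊗[k] A)ˣ) : R ⊗[k] A) * Phi φ R (u : R ⊗[k] A) = 1 := by
    rw [← map_mul, Units.inv_mul, map_one]
  have hinv' : Phi φ R (u : R ⊗[k] A) * Phi φ R ((u⁻¹ : (R ⊗[k] A)ˣ) : R ⊗[k] A) = 1 := by
    rw [← map_mul, Units.mul_inv, map_one]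
  constructor
  · rintro ⟨c, hc⟩
    refine ⟨c, ?_⟩
    rw [← Matrix.smul_vecMul, hc, Matrix.vecMul_vecMul, hinv, Matrix.vecMul_one]
  · rintro ⟨c, hc⟩
    refine ⟨c, ?_⟩
    rw [← hc, Matrix.smul_vecMul, Matrix.vecMul_vecMul, hinv', Matrix.vecMul_one]

end

end K845.SBSplit
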