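import Groth.Agent.BddFin.K845.CentFin
import Groth.Agent.BddFin.K845.PtTorus
import Groth.Agent.Agf.H582.ConjDict
import Groth.Agent.Sga3B.SplitBc264
import Groth.Agent.Sga3B.RG.BrMax
import Groth.Agent.Sga3B.RG.ConjTori
import Groth.Agent.Sga3C.GrpIrr
import Groth.Agent.Sga3C.SubGrp
import Groth.Agent.Sga3.H665.TorBcNA
import Groth.Agent.Sga3.H797.FpqcSub
import Groth.Agent.S4121

/-!
# A point of finite order prime to the characteristic lies in a torus

`exists_torus_pt` : `G` affine, smooth and connected over a field `K`, `x ∈ G(K)` of finite order prime to the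
characteristic. There is a torus `T ⊆ G` over `K` with `x ∈ T(K)`: a maximal torus of the centralizer of `x`.
-/

set_option autoImplicit false

universe u

open CategoryTheory MonoidalCategory CartesianMonoidalCategory MonObj GrpObj AlgebraicGeometry
open Groth.Agent.Books.AffBridge Groth.Agent.Books.AffBridge2
open Groth.Agent.Sga3B Groth.Agent.Sga3B.RG Groth.Agent.Sga3B.RG.BrPts Groth.Agent.Sga3B.BcPts

namespace K845.TorMain

/-- Over an algebraically closed field, a point `x` of finite order prime to the characteristic lies in every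
maximal torus of its centralizer. -/
theorem exists_lift_algClosed {K : Type u} [Field K] [IsAlgClosed K]
    (G Z T : Over (Spec (CommRingCat.of K))) [GrpObj G] [GrpObj Z] [GrpObj T] [IsAffine G.left]
    [Smooth G.hom] [ConnectedSpace G.left]
    (x : 𝟙_ (Over (Spec (CommRingCat.of K))) ⟶ G) (m : ℕ) (hm : (m : K) ≠ 0) (hx : x ^ m = 1)
    (j : Z ⟶ G) [IsMonHom j] [IsClosedImmersion j.left] [Smooth Z.hom]
    (huniv : ∀ (X : Over (Spec (CommRingCat.of K))) (g : X ⟶ G), (∃ z : X ⟶ Z, z ≫ j = g) ↔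
        g * (toUnit X ≫ x) = (toUnit X ≫ x) * g)
    (t : T ⟶ Z) (ht : Red.IsMaximalTorus t) :
    ∃ y : 𝟙_ (Over (Spec (CommRingCat.of K))) ⟶ T, y ≫ t ≫ j = x := by
  have hmono : Mono j := Over.mono_of_mono_left j
  have ht1 : IsMonHom t := ht.1
  obtain ⟨A, _, _, e, he, hft, hdom⟩ :=
    Groth.Agent.Agf.H582.ConjDict.exists_hopf_of_connected (K := K) G
  let x₀ : Pt K A := (ptEquiv K A).symm (x ≫ e.hom)
  have hx₀ : x₀ ^ m = 1 := by
    apply (ptEquiv K A).injective
    rw [map_pow, MulEquiv.apply_symm_apply, map_one, ← MonObj.pow_comp, hx, MonObj.one_comp]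
  obtain ⟨S, hS, hxS⟩ := PtTorus.exists_torus hm hx₀
  obtain ⟨D, _, d, hd, hD, hdcl, rfl⟩ := BrTorus.exists_of_isTorusSub hS
  obtain ⟨n, hn⟩ := hxS
  have hn : n ≫ d = x ≫ e.hom := by rw [hn, MulEquiv.apply_symm_apply]
  have hn' : n ≫ d ≫ e.inv = x := by rw [← Category.assoc, hn, Category.assoc, Iso.hom_inv_id, Category.comp_id]
  have hinv : IsMonHom e.inv := inferInstance
  have hdm : Mono d := Over.mono_of_mono_left d
  have hu : toUnit (𝟙_ (Over (Spec (CommRingCat.of K)))) = 𝟙 _ := toUnit_unique _ _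
  obtain ⟨d', hd'⟩ := (huniv D (d ≫ e.inv)).2 (by
    have h1 : toUnit D ≫ x = (toUnit D ≫ n) ≫ d ≫ e.inv := by rw [Category.assoc, hn']
    have h2 : d ≫ e.inv = 𝟙 D ≫ d ≫ e.inv := (Category.id_comp _).symm
    have h3 : (𝟙 D ≫ d ≫ e.inv) * ((toUnit D ≫ n) ≫ d ≫ e.inv) =
        ((toUnit D ≫ n) ≫ d ≫ e.inv) * (𝟙 D ≫ d ≫ e.inv) := by
      rw [← MonObj.mul_comp, ← MonObj.mul_comp, SplitBc264.torus_comm hD]
    rwa [← h2, ← h1] at h3)
  have hd'mono : Mono d' := by
    have : Mono (d' ≫ j) := by rw [hd']; infer_instance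
    exact mono_of_mono d' j
  have hd'mh : IsMonHom d' := by
    have : IsMonHom (d' ≫ j) := by rw [hd']; infer_instance
    exact Groth.Agent.Sga3C.SubGrp.isMonHom_of_comp_mono d' j
  have haffZ : IsAffine Z.left := isAffine_of_isAffineHom j.left
  obtain ⟨C, _, _, eZ, heZ⟩ := exists_hopf K Z
  have hC1 : Smooth (SpecOver K C).hom := by
    rw [hom_eq_of_iso eZ.symm]; infer_instance
  have hC2 : Algebra.FiniteType K C := (locallyOfFiniteType_specOver_iff K C).1 inferInstance
  have hC3 : _root_.IsReduced C := (BrPts.smooth_iff C).1 hC1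
  have hT' := BrMax.isMaxTorusSub_of_isMaximalTorus t eZ ht
  have hS' : IsTorusSub (ptsSub (d' ≫ eZ.hom)) := BrTorus.isTorusSub_ptsSub (d' ≫ eZ.hom) hD
  obtain ⟨S'', hS'', hle⟩ := IsTorusSub.exists_isMaxTorusSub hS'
  obtain ⟨c, -, hc⟩ := ConjTori.exists_conj_of_le_closed (H := (⊤ : Subgroup (Pt K C)))
    (fun g _ => trivial) hS''.1 le_top (fun S hS _ h => hS''.2 S hS h) hT'.1 le_top
    (fun S hS _ h => hT'.2 S hS h)
  obtain ⟨xZ, hxZ⟩ := (huniv (𝟙_ _) x).2 (by rw [hu, Category.id_comp])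
  let z₀ : Pt K C := (ptEquiv K C).symm (xZ ≫ eZ.hom)
  have hz₀ : z₀ ∈ S'' := hle ⟨n, by
    rw [MulEquiv.apply_symm_apply, ← Category.assoc]
    congr 1
    rw [← cancel_mono j, Category.assoc, hd', hxZ, hn']⟩
  have hzc : c * z₀ * c⁻¹ = z₀ := by
    rw [mul_inv_eq_iff_eq_mul]
    apply (ptEquiv K C).injective
    rw [map_mul, map_mul, MulEquiv.apply_symm_apply, ← cancel_mono eZ.inv, MonObj.mul_comp, MonObj.mul_comp,
      Category.assoc xZ, Iso.hom_inv_id, Category.comp_id, ← cancel_mono j, MonObj.mul_comp, MonObj.mul_comp, hxZ]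
    have h1 := (huniv _ _).1 ⟨ptEquiv K C c ≫ eZ.inv, rfl⟩
    rwa [hu, Category.id_comp] at h1
  have hz₁ : z₀ ∈ ptsSub (t ≫ eZ.hom) := by
    rw [← hc]
    exact ⟨z₀, hz₀, hzc⟩
  obtain ⟨y, hy⟩ := hz₁
  refine ⟨y, ?_⟩
  rw [MulEquiv.apply_symm_apply, ← Category.assoc, cancel_mono] at hy
  rw [← Category.assoc, hy, hxZ]

/-- **A point of finite order prime to the characteristic lies in a torus.** -/
theorem exists_torus_pt (K : Type u) [Field K] (G : Over (Spec (CommRingCat.of K))) [GrpObj G]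
    [IsAffine G.left] [Smooth G.hom] [ConnectedSpace G.left]
    (x : 𝟙_ (Over (Spec (CommRingCat.of K))) ⟶ G) (m : ℕ) (hm : (m : K) ≠ 0) (hx : x ^ m = 1) :
    ∃ (T : Over (Spec (CommRingCat.of K))) (_ : GrpObj T) (i : T ⟶ G)
      (y : 𝟙_ (Over (Spec (CommRingCat.of K))) ⟶ T),
      IsMonHom i ∧ Mono i ∧ Red.IsTorus T ∧ y ≫ i = x := by
  obtain ⟨Z, _, j, hj1, hj2, hZ, huniv⟩ := CentFin.exists_centralizer_pt G x m hm hx
  have hmono : Mono j := Over.mono_of_mono_left j
  have haffZ : IsAffine Z.left := isAffine_of_isAffineHom j.left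
  have hA : ∀ (X : Over (Spec (CommRingCat.of K))) [IsAffine X.left], IsAffineHom X.hom := fun X _ => by
    have h : IsAffine ((Functor.fromPUnit (Spec (CommRingCat.of K))).obj X.right) :=
      inferInstanceAs (IsAffine (Spec (CommRingCat.of K)))
    exact isAffineHom_of_isAffine _
  have hZa := hA Z
  have hGa := hA G
  obtain ⟨T, _, t, ht⟩ := Groth.Agent.S4121.result K Z
  have ht1 : IsMonHom t := ht.1
  have ht2 : Mono t := ht.2.1
  suffices h : ∃ y : 𝟙_ (Over (Spec (CommRingCat.of K))) ⟶ T, y ≫ t ≫ j = x by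
    obtain ⟨y, hy⟩ := h
    exact ⟨T, inferInstance, t ≫ j, y, inferInstance, inferInstance, ht.2.2.1, hy⟩
  let q : Spec (CommRingCat.of (AlgebraicClosure K)) ⟶ Spec (CommRingCat.of K) :=
    Spec.map (CommRingCat.ofHom (algebraMap K (AlgebraicClosure K)))
  have hqf : Flat q := (HasRingHomProperty.Spec_iff (P := @Flat)).2 (by
    change (algebraMap K (AlgebraicClosure K)).Flat
    rw [RingHom.flat_algebraMap_iff]
    infer_instance)
  have hqc : QuasiCompact q := by
    change QuasiCompact (Spec.map (CommRingCat.ofHom (algebraMap K (AlgebraicClosure K))))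
    infer_instance
  have hqs : Surjective q := ⟨fun y => ⟨IsLocalRing.closedPoint _, Subsingleton.elim (α := PrimeSpectrum K) _ _⟩⟩
  let U : Over (Spec (CommRingCat.of K)) := (Over.map q).obj (𝟙_ (Over (Spec (CommRingCat.of (AlgebraicClosure K)))))
  let x' : 𝟙_ (Over (Spec (CommRingCat.of (AlgebraicClosure K)))) ⟶ Red.bc q G :=
    bcMulEquiv q _ G (toUnit U ≫ x)
  have hx' : x' ^ m = 1 := by
    rw [← map_pow, ← MonObj.comp_pow, hx, MonObj.comp_one, map_one]
  have hjm : IsMonHom ((Over.pullback q).map j) := inferInstance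
  have hjc : IsClosedImmersion ((Over.pullback q).map j).left :=
    SplitBc264.isClosedImmersion_bc q j hj2
  have hsm : Smooth (Red.bc q G).hom := inferInstanceAs (Smooth (Limits.pullback.snd G.hom q))
  have hsmZ : Smooth (Red.bc q Z).hom := inferInstanceAs (Smooth (Limits.pullback.snd Z.hom q))
  have haff : IsAffine (Red.bc q G).left := inferInstanceAs (IsAffine (Limits.pullback G.hom q))
  have hconn : ConnectedSpace (Red.bc q G).left :=
    Groth.Agent.Sga3C.GrpIrr.connectedSpace_pullback_of_section G.hom η[G].left (Over.w η[G])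
  have huniv' : ∀ (X : Over (Spec (CommRingCat.of (AlgebraicClosure K)))) (g : X ⟶ Red.bc q G),
      (∃ z : X ⟶ Red.bc q Z, z ≫ (Over.pullback q).map j = g) ↔
        g * (toUnit X ≫ x') = (toUnit X ≫ x') * g := by
    intro X g
    obtain ⟨g, rfl⟩ := (bcMulEquiv q X G).surjective g
    have h1 : toUnit X ≫ x' = bcMulEquiv q X G (toUnit _ ≫ x) := by
      change _ ≫ bcEquiv q _ G _ = bcEquiv q X G _
      rw [← comp_bcEquiv, ← Category.assoc, toUnit_unique ((Over.map q).map (toUnit X) ≫ toUnit U) (toUnit _)]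
    rw [h1, ← map_mul, ← map_mul, (bcMulEquiv q X G).injective.eq_iff, ← huniv]
    constructor
    · rintro ⟨z, hz⟩
      obtain ⟨z, rfl⟩ := (bcEquiv q X Z).surjective z
      rw [← bcEquiv_comp] at hz
      exact ⟨z, (bcEquiv q X G).injective hz⟩
    · rintro ⟨z, rfl⟩
      exact ⟨bcEquiv q X Z z, (bcEquiv_comp q z j).symm⟩
  obtain ⟨y', hy'⟩ := exists_lift_algClosed (Red.bc q G) (Red.bc q Z) (Red.bc q T) x' m (by
    intro h0
    apply hm
    apply (algebraMap K (AlgebraicClosure K)).injective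
    rw [map_natCast, h0, map_zero]) hx' ((Over.pullback q).map j) huniv' ((Over.pullback q).map t)
    (Groth.Agent.Sga3.H665.TorBcNA.isMaximalTorus_bc q ht)
  obtain ⟨y', rfl⟩ := (bcEquiv q _ T).surjective y'
  have hy'' : y' ≫ t ≫ j = toUnit U ≫ x := by
    apply (bcEquiv q _ G).injective
    rw [bcEquiv_comp, Functor.map_comp]
    exact hy'
  have hUl : (toUnit U).left = q := by
    rw [Over.toUnit_left]
    exact Category.id_comp q
  have h1 : Flat (toUnit U).left := by rw [hUl]; exact hqf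
  have h2 : Surjective (toUnit U).left := by rw [hUl]; exact hqs
  have h3 : QuasiCompact (toUnit U).left := by rw [hUl]; infer_instance
  obtain ⟨y, hy⟩ := Groth.Agent.Sga3.H797.FpqcSub.exists_desc (toUnit U) y' (fun W z₀ z₁ hz => by
    rw [← cancel_mono (t ≫ j), Category.assoc, Category.assoc, hy'', ← Category.assoc, hz, Category.assoc])
  refine ⟨y, ?_⟩
  apply Groth.Agent.Sga3.H797.FpqcSub.hom_ext_of_fpqc (toUnit U)
  rw [← Category.assoc, hy, hy'']

end K845.TorMain
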