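import Groth.Agent.S15184
import Groth.Agent.S15169
import Mathlib.GroupTheory.Torsion
import Mathlib.GroupTheory.FiniteAbelian.Basic
import Mathlib.RingTheory.SimpleModule.WedderburnArtin
import Mathlib.RingTheory.Artinian.Module

/-!
# Unbounded finite subgroups of `Aˣ / kˣ`
-/

set_option autoImplicit false
universe u v

namespace K845.Unbdd

/-- In a group, commuting elements of order dividing `p`, infinitely many of them, give unbounded finite subgroups. -/
theorem exists_subgroup (G : Type u) [Group G] (p : ℕ) (hp : 0 < p) (ι : Type v) (s : ι → G) (S : Set ι) (hS : S.Infinite)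
    (hinj : Set.InjOn s S)
    (hcomm : ∀ i ∈ S, ∀ j ∈ S, s i * s j = s j * s i) (hpow : ∀ i ∈ S, s i ^ p = 1) (N : ℕ) :
    ∃ H : Subgroup G, Finite H ∧ N < Nat.card H := by
  classical
  obtain ⟨t, ht, htc⟩ := hS.exists_subset_card_eq (N + 1)
  let T : Set G := s '' (t : Set ι)
  have hTfin : T.Finite := (t.finite_toSet).image s
  let H : Subgroup G := Subgroup.closure T
  have hc : ∀ x ∈ T, ∀ y ∈ T, x * y = y * x := by
    rintro _ ⟨i, hi, rfl⟩ _ ⟨j, hj, rfl⟩
    exact hcomm i (ht hi) j (ht hj)
  have hcomm' : ∀ x ∈ H, ∀ y ∈ H, x * y = y * x := by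
    intro x hx y hy
    induction hx using Subgroup.closure_induction with
    | one => simp
    | inv x _ h =>
      have h1 : Commute x y := h
      exact h1.inv_left
    | mul x z _ _ h1 h2 =>
      have h1 : Commute x y := h1
      have h2 : Commute z y := h2
      exact h1.mul_left h2
    | mem x hx =>
      induction hy using Subgroup.closure_induction with
      | one => simp
      | inv y _ h =>
        have h1 : Commute x y := h
        exact h1.inv_right
      | mul y z _ _ h1 h2 =>
        have h1 : Commute x y := h1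
        have h2 : Commute x z := h2
        exact h1.mul_right h2
      | mem y hy => exact hc x hx y hy
  let iH : CommGroup H := { (inferInstance : Group H) with mul_comm := fun x y => Subtype.ext (hcomm' x x.2 y y.2) }
  have hexp : ∀ x ∈ H, x ^ p = 1 := by
    intro x hx
    induction hx using Subgroup.closure_induction with
    | one => simp
    | inv x _ h => rw [inv_pow, h, inv_one]
    | mul x y hx hy h1 h2 =>
      have : Commute x y := hcomm' x hx y hy
      rw [this.mul_pow, h1, h2, one_mul]
    | mem x hx =>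
      obtain ⟨i, hi, rfl⟩ := hx
      exact hpow i (ht hi)
  have htors : Monoid.IsTorsion H := by
    intro x
    rw [isOfFinOrder_iff_pow_eq_one]
    exact ⟨p, hp, Subtype.ext (hexp x x.2)⟩
  have hfg : Group.FG H := (Group.fg_iff_subgroup_fg H).mpr ⟨hTfin.toFinset, by rw [Set.Finite.coe_toFinset]⟩
  have hfin : Finite H := CommGroup.finite_of_fg_torsion H htors
  refine ⟨H, hfin, ?_⟩
  have h1 : Set.InjOn s (t : Set ι) := hinj.mono ht
  have h2 : N + 1 ≤ Nat.card H := by
    have h3 : (t : Set ι).ncard = N + 1 := by rw [Set.ncard_coe_finset, htc]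
    rw [← h3, ← Set.ncard_image_of_injOn h1]
    exact Set.ncard_le_ncard (t := (H : Set G)) (Subgroup.subset_closure) (Set.toFinite _)
  omega

/-- Existence of `w` outside `k` with `w ^ p` in `k`. -/
theorem exists_pow_mem (k : Type u) [Field k] (p : ℕ) [Fact p.Prime] [CharP k p] (hp : p = 2 ∨ p = 3)
    (A : Type u) [Ring A] [Algebra k A] [Algebra.IsCentral k A] [IsSimpleRing A]
    (hA : Module.finrank k A = p * p) :
    ∃ w : A, w ^ p ∈ (algebraMap k A).range ∧ w ∉ (algebraMap k A).range := by
  have hpp : p.Prime := Fact.out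
  have hfin : FiniteDimensional k A := FiniteDimensional.of_finrank_pos (by rw [hA]; exact Nat.mul_pos hpp.pos hpp.pos)
  by_cases hdiv : ∀ x : A, IsUnit x ∨ x = 0
  · let iD : DivisionRing A := DivisionRing.ofIsUnitOrEqZero hdiv
    have h1 : ∃ v : A, ¬ IsSeparable k v := Groth.Agent.S15184.result k p A (by rw [hA, sq]) hp
    obtain ⟨v, w, hv, -, hvw, -⟩ := Groth.Agent.S15169.result k p A (by rw [hA, sq]) h1
    refine ⟨v, hv, ?_⟩
    rintro ⟨c, rfl⟩
    rw [Algebra.commutes, sub_self] at hvw
    exact zero_ne_one hvw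
  · push Not at hdiv
    obtain ⟨x, hx, hx0⟩ := hdiv
    have : IsArtinianRing A := IsArtinianRing.of_finite k A
    obtain ⟨r, hr, D, iD, iA, ⟨e⟩⟩ := IsSimpleRing.exists_algEquiv_matrix_divisionRing k A
    have hr2 : 1 < r := by
      by_contra hle
      have hr1 : r = 1 := by
        have := hr.out
        omega
      subst hr1
      apply hx
      have h1 : e x 0 0 ≠ 0 := by
        intro h0
        apply hx0
        apply e.injective
        rw [map_zero]
        ext i j
        obtain rfl : i = 0 := Subsingleton.elim _ _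
        obtain rfl : j = 0 := Subsingleton.elim _ _
        exact h0
      have h2 : IsUnit (e x) := by
        refine ⟨⟨e x, Matrix.of fun _ _ => (e x 0 0)⁻¹, ?_, ?_⟩, rfl⟩
        · ext i j
          obtain rfl : i = 0 := Subsingleton.elim _ _
          obtain rfl : j = 0 := Subsingleton.elim _ _
          simp [Matrix.mul_apply, mul_inv_cancel₀ h1]
        · ext i j
          obtain rfl : i = 0 := Subsingleton.elim _ _
          obtain rfl : j = 0 := Subsingleton.elim _ _
          simp [Matrix.mul_apply, inv_mul_cancel₀ h1]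
      have h3 := h2.map e.symm
      rwa [e.symm_apply_apply] at h3
    let i0 : Fin r := ⟨0, by omega⟩
    let i1 : Fin r := ⟨1, hr2⟩
    have h01 : i0 ≠ i1 := by simp [i0, i1]
    let E : Matrix (Fin r) (Fin r) D := Matrix.single i0 i1 1
    have hE2 : E * E = 0 := Matrix.single_mul_single_of_ne _ _ _ _ h01.symm _
    have hE0 : E ≠ 0 := by
      intro h0
      have := congrFun (congrFun h0 i0) i1
      simp [E] at this
    refine ⟨e.symm E, ?_, ?_⟩
    · refine ⟨0, ?_⟩
      rw [map_zero, ← map_pow]
      have h4 : E ^ p = 0 := by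
        obtain ⟨q, rfl⟩ : ∃ q, p = q + 2 := ⟨p - 2, by have := hpp.two_le; omega⟩
        rw [pow_add, sq, hE2, mul_zero]
      rw [h4, map_zero]
    · rintro ⟨c, hc⟩
      have h5 : algebraMap k (Matrix (Fin r) (Fin r) D) c = E := by
        rw [← e.commutes c, hc, e.apply_symm_apply]
      have hc0 : c ≠ 0 := by
        rintro rfl
        rw [map_zero] at h5
        exact hE0 h5.symm
      have h6 : algebraMap k (Matrix (Fin r) (Fin r) D) (c * c) = 0 := by
        rw [map_mul, h5, hE2]
      have : Nonempty (Fin r) := ⟨i0⟩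
      rw [FaithfulSMul.algebraMap_eq_zero_iff] at h6
      exact hc0 (mul_self_eq_zero.mp h6)

/-- Main statement. -/
theorem main (k : Type u) [Field k] [Infinite k] (p : ℕ) [Fact p.Prime] [CharP k p] (hp : p = 2 ∨ p = 3)
    (A : Type u) [Ring A] [Algebra k A] [Algebra.IsCentral k A] [IsSimpleRing A]
    (hA : Module.finrank k A = p * p) (G : Type v) [Group G] (ξ : Aˣ →* G)
    (hker : ξ.ker = (Units.map (algebraMap k A : k →* A)).range) (N : ℕ) :
    ∃ H : Subgroup G, Finite H ∧ N < Nat.card H := by
  classical
  have hpp : p.Prime := Fact.out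
  obtain ⟨w, ⟨c, hc⟩, hwk⟩ := exists_pow_mem k p hp A hA
  have : CharP A p := charP_of_injective_algebraMap (FaithfulSMul.algebraMap_injective k A) p
  have hpow : ∀ a : k, (algebraMap k A a + w) ^ p = algebraMap k A (a ^ p + c) := by
    intro a
    rw [add_pow_char_of_commute (R := A) p (Algebra.commutes a w), ← hc, map_add, map_pow]
  let S : Set k := {a | a ^ p + c ≠ 0}
  have hS : S.Infinite := by
    have h1 : Sᶜ.Finite := by
      apply Set.Subsingleton.finite
      intro a ha b hb
      simp only [S, Set.mem_compl_iff, Set.mem_setOf_eq, not_not] at ha hb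
      have h2 : a ^ p = b ^ p := by
        rw [eq_neg_of_add_eq_zero_left ha, eq_neg_of_add_eq_zero_left hb]
      exact frobenius_inj k p h2
    exact h1.infinite_compl.mono (by rw [compl_compl])
  have hunit : ∀ a ∈ S, IsUnit (algebraMap k A a + w) := by
    intro a ha
    have h1 : IsUnit ((algebraMap k A a + w) ^ p) := by
      rw [hpow]
      exact (isUnit_iff_ne_zero.mpr ha).map (algebraMap k A)
    exact (isUnit_pow_iff hpp.ne_zero).mp h1
  let s : k → G := fun a => if h : a ∈ S then ξ (hunit a h).unit else 1
  have hs : ∀ a (h : a ∈ S), s a = ξ (hunit a h).unit := fun a h => dif_pos h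
  refine exists_subgroup G p hpp.pos k s S hS ?_ ?_ ?_ N
  · intro a ha b hb hab
    rw [hs a ha, hs b hb] at hab
    have h1 : (hunit a ha).unit * (hunit b hb).unit⁻¹ ∈ ξ.ker := by
      rw [MonoidHom.mem_ker, map_mul, map_inv, hab, mul_inv_cancel]
    rw [hker] at h1
    obtain ⟨r, hr⟩ := h1
    have h2 : (algebraMap k A a + w) = algebraMap k A r * (algebraMap k A b + w) := by
      have h3 : (hunit a ha).unit = Units.map (algebraMap k A : k →* A) r * (hunit b hb).unit := by
        rw [hr, inv_mul_cancel_right]
      have h4 := congrArg (fun z : Aˣ => (z : A)) h3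
      simpa using h4
    by_cases hr1 : (r : k) = 1
    · rw [hr1, map_one, one_mul] at h2
      exact FaithfulSMul.algebraMap_injective k A (add_right_cancel h2)
    · exfalso
      apply hwk
      have hr2 : (1 - (r : k)) ≠ 0 := sub_ne_zero.mpr (Ne.symm hr1)
      refine ⟨(1 - (r : k))⁻¹ * ((r : k) * b - a), ?_⟩
      have h5 : algebraMap k A (1 - (r : k)) * w = algebraMap k A ((r : k) * b - a) := by
        rw [map_sub, map_sub, map_one, map_mul, sub_mul, one_mul]
        rw [mul_add] at h2
        rw [sub_eq_sub_iff_add_eq_add, add_comm w, h2]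
        try abel
      rw [map_mul, ← h5, ← mul_assoc, ← map_mul, inv_mul_cancel₀ hr2, map_one, one_mul]
  · intro a ha b hb
    rw [hs a ha, hs b hb, ← map_mul, ← map_mul]
    congr 1
    ext
    simp only [Units.val_mul, IsUnit.unit_spec, mul_add, add_mul]
    rw [Algebra.commutes a w, Algebra.commutes b w, Algebra.commutes a (algebraMap k A b)]
    abel
  · intro a ha
    rw [hs a ha, ← map_pow, ← MonoidHom.mem_ker, hker]
    refine ⟨Units.mk0 (a ^ p + c) ha, ?_⟩
    ext
    rw [Units.coe_map, MonoidHom.coe_coe, Units.val_mk0, Units.val_pow_eq_pow_val, IsUnit.unit_spec, hpow]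

end K845.Unbdd
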